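import Groth.Agent.L27.FLC.Glue
import Groth.Agent.L27.FEtGal.SplitFinite
import Groth.Agent.L20.SchDesc.Fppf
import Groth.Agent.L23.AffineMor
import Mathlib.AlgebraicGeometry.Morphisms.LocalFlatDescent
import Mathlib.AlgebraicGeometry.Morphisms.FlatDescent
import Mathlib.CategoryTheory.Sites.ConstantSheaf

/-! # Finite locally constant sheaves are represented by finite etale schemes -/

set_option autoImplicit false
universe u

open CategoryTheory CategoryTheory.Limits AlgebraicGeometry Opposite TopologicalSpace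

set_option backward.isDefEq.respectTransparency.types false
set_option linter.style.haveILetI false

noncomputable section

namespace Groth.L27.FLC

open Fppf Groth.L25.HomScheme
open Groth.L25.HomScheme.Fam (sig inc sigMap inc_openFamily isEmpty_of_inc isPullback_inc)

variable {S : Scheme.{u}} (F : EtCoh.Ab S)

/-- `s` trivializes `F` over `U`: every section is locally one of the `s m`, and these differ everywhere. -/
structure IsTriv (U : S.Etale) {M : Type} [AddCommGroup M] (s : M →+ F.obj.obj (op U)) : Prop where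
  inj : ∀ (W : S.Etale) (g : W ⟶ U), Nonempty W.left → ∀ m, F.obj.map g.op (s m) = 0 → m = 0
  loc : ∀ (W : S.Etale) (g : W ⟶ U) (x : F.obj.obj (op W)) (w : W.left),
    ∃ (W' : S.Etale) (d : W' ⟶ W) (w' : W'.left) (m : M),
      d.left w' = w ∧ F.obj.map d.op x = F.obj.map (d ≫ g).op (s m)

theorem exists_isTriv (U : S.Etale) {M : Type} [AddCommGroup M]
    (ε : EtCoh.restr F U ≅ (constantSheaf (S.smallEtaleTopology.over U) AddCommGrpCat.{u + 1}).obj
      (AddCommGrpCat.of (ULift.{u + 1} M))) :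
    ∃ s : M →+ F.obj.obj (op U), IsTriv F U s := by
  let J' := S.smallEtaleTopology.over U
  let C : (Over U)ᵒᵖ ⥤ AddCommGrpCat.{u + 1} := (Functor.const _).obj (AddCommGrpCat.of (ULift.{u + 1} M))
  let α : C ⟶ (EtCoh.restr F U).obj := toSheafify J' C ≫ ε.inv.hom
  let up : M →+ ULift.{u + 1} M := (AddEquiv.ulift.symm : M ≃+ ULift.{u + 1} M).toAddMonoidHom
  let s : M →+ F.obj.obj (op U) := (α.app (op (Over.mk (𝟙 U)))).hom.comp up
  have hnat : ∀ {W : S.Etale} (g : W ⟶ U) (m : M), F.obj.map g.op (s m) = α.app (op (Over.mk g)) ⟨m⟩ :=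
    fun {W} g m => (NatTrans.naturality_apply α
      (Over.homMk g (Category.comp_id g) : Over.mk g ⟶ Over.mk (𝟙 U)).op ⟨m⟩).symm
  refine ⟨s, fun W g ⟨w⟩ m hm => ?_, fun W g x w => ?_⟩
  · rw [hnat] at hm
    have h0 : (toSheafify J' C).app (op (Over.mk g)) ⟨m⟩ = (toSheafify J' C).app (op (Over.mk g)) 0 := by
      have h1 := congrArg (ε.hom.hom.app (op (Over.mk g))) hm
      replace h1 := h1.trans (map_zero (ε.hom.hom.app (op (Over.mk g))).hom)
      refine Eq.trans ?_ (map_zero ((toSheafify J' C).app (op (Over.mk g))).hom).symm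
      refine Eq.trans ?_ h1
      exact (ConcreteCategory.congr_hom (congrArg (fun k => k.hom.app (op (Over.mk g))) ε.inv_hom_id)
        ((toSheafify J' C).app (op (Over.mk g)) ⟨m⟩)).symm
    obtain ⟨W', d, -, hd, -⟩ := (EtSite.mem_topology_iff _).1 ((S.smallEtaleTopology.mem_over_iff _).1
      (Presheaf.equalizerSieve_mem J' (toSheafify J' C) (X := op (Over.mk g)) ⟨m⟩ 0 h0)) w
    have hd' : (⟨m⟩ : ULift.{u + 1} M) = 0 := (Sieve.overEquiv_iff _ d).1 hd
    exact congrArg ULift.down hd'
  · let y := ε.hom.hom.app (op (Over.mk g)) x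
    obtain ⟨W', d, w', hd, hw⟩ := (EtSite.mem_topology_iff _).1 ((S.smallEtaleTopology.mem_over_iff _).1
      (Presheaf.imageSieve_mem J' (toSheafify J' C) (U := op (Over.mk g)) y)) w
    obtain ⟨⟨m⟩, hm⟩ := (Sieve.overEquiv_iff _ d).1 hd
    refine ⟨W', d, w', m, hw, ?_⟩
    rw [hnat]
    let k : Over.mk (d ≫ g) ⟶ Over.mk g := Over.homMk d rfl
    refine Eq.trans ?_ (congrArg (ε.inv.hom.app (op (Over.mk (d ≫ g)))) hm).symm
    refine Eq.trans ?_ (NatTrans.naturality_apply ε.inv.hom k.op y).symm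
    refine congrArg ((EtCoh.restr F U).obj.map k.op) ?_
    exact (ConcreteCategory.congr_hom (congrArg (fun k => k.hom.app (op (Over.mk g))) ε.hom_inv_id) x).symm

section Local

variable {U : S.Etale} {M : Type} [AddCommGroup M] (s : M →+ F.obj.obj (op U))

/-- Where a section equals the constant `m`. -/
def locus {T : Over S} (p : T ⟶ (EtFppf.a S).obj U) (x : (G F).obj.obj (op T)) (m : M) : Set T.left :=
  {t | ∃ (T' : Over S) (g : T' ⟶ T) (t' : T'.left), AlgebraicGeometry.Etale g.left ∧ g.left t' = t ∧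
    (G F).obj.map g.op x = (G F).obj.map (g ≫ p).op (ev F U (s m))}

variable {F s} {T : Over S} (p : T ⟶ (EtFppf.a S).obj U) (x : (G F).obj.obj (op T))

theorem isOpen_locus (m : M) : IsOpen (locus F s p x m) := by
  refine isOpen_iff_forall_mem_open.2 ?_
  rintro _ ⟨T', g, t', hg, rfl, e⟩
  haveI := hg
  exact ⟨Set.range g.left, by rintro _ ⟨v, rfl⟩; exact ⟨T', g, v, hg, rfl, e⟩,
    g.left.isOpenMap.isOpen_range, ⟨t', rfl⟩⟩

theorem locus_disjoint (hs : IsTriv F U s) {m n : M} {t : T.left}
    (hm : t ∈ locus F s p x m) (hn : t ∈ locus F s p x n) : m = n := by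
  obtain ⟨T₁, g₁, t₁, -, ht₁, e₁⟩ := hm
  obtain ⟨T₂, g₂, t₂, -, ht₂, e₂⟩ := hn
  obtain ⟨P, a, b, hab, hP, -⟩ := exists_pullback g₁ g₂
  obtain ⟨z, -, -⟩ := Scheme.exists_preimage_of_isPullback hP t₁ t₂ (ht₁.trans ht₂.symm)
  have h0 : e F (a ≫ g₁ ≫ p) (s (m - n)) = 0 := by
    rw [← map_ev, map_sub, map_sub, map_sub, sub_eq_zero, ← map_map', ← e₁, map_map', hab]
    rw [show a ≫ g₁ ≫ p = b ≫ g₂ ≫ p by rw [← Category.assoc, hab, Category.assoc], ← map_map', ← map_map', e₂]
  obtain ⟨Q, k, q, U', β, c', -, -, -, hβ⟩ := e_eq_zero F _ _ h0 z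
  exact sub_eq_zero.1 (hs.inj U' β ⟨c'.left q⟩ _ hβ)

theorem exists_mem_locus (hs : IsTriv F U s) (t : T.left) : ∃ m, t ∈ locus F s p x m := by
  obtain ⟨T', g, t', V, c, s₀, hg, ht, hx⟩ := exists_e F x t
  haveI := hg
  haveI : AlgebraicGeometry.Etale U.hom := U.prop
  haveI : AlgebraicGeometry.Etale V.hom := V.prop
  let W : S.Etale := Scheme.Etale.mk (pullback.fst V.hom U.hom ≫ V.hom)
  let π₁ : W ⟶ V := MorphismProperty.Over.homMk (pullback.fst V.hom U.hom) rfl
  let π₂ : W ⟶ U := MorphismProperty.Over.homMk (pullback.snd V.hom U.hom) pullback.condition.symm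
  let l : T' ⟶ (EtFppf.a S).obj W :=
    Over.homMk (pullback.lift c.left (g ≫ p).left ((Over.w c).trans (Over.w (g ≫ p)).symm))
      ((Category.assoc _ _ _).symm.trans ((congrArg (· ≫ V.hom) (pullback.lift_fst _ _ _)).trans (Over.w c)))
  have hl₁ : l ≫ (EtFppf.a S).map π₁ = c := Over.OverMorphism.ext (pullback.lift_fst _ _ _)
  have hl₂ : l ≫ (EtFppf.a S).map π₂ = g ≫ p := Over.OverMorphism.ext (pullback.lift_snd _ _ _)
  obtain ⟨W', d, w', m, hw', hd⟩ := hs.loc W π₂ (F.obj.map π₁.op s₀) (l.left t')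
  obtain ⟨P, a, b, hab, hP, -⟩ := exists_pullback l ((EtFppf.a S).map d)
  obtain ⟨z, hz, -⟩ := Scheme.exists_preimage_of_isPullback hP t' w' hw'.symm
  haveI : AlgebraicGeometry.Etale a.left :=
    MorphismProperty.of_isPullback (P := EtCoh.etaleMP.{u}) hP.flip (etale_a_map d)
  refine ⟨m, P, a ≫ g, z, etale_comp a g, ?_, ?_⟩
  · rw [comp_left_apply, hz, ht]
  · rw [← map_map', hx, ← hl₁, ← e_nat, ← map_ev, map_map', hab, ← map_map', ← ev_nat, hd, ev_nat, map_map']
    refine congrArg (fun k => (G F).obj.map (Quiver.Hom.op k) (ev F U (s m))) ?_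
    rw [Functor.map_comp, ← Category.assoc, ← hab, Category.assoc, hl₂, Category.assoc]

theorem map_eq_of_locus {Z : Over S} (k : Z ⟶ T) (m : M) (hk : ∀ z, k.left z ∈ locus F s p x m) :
    (G F).obj.map k.op x = (G F).obj.map (k ≫ p).op (ev F U (s m)) := by
  rw [← sub_eq_zero]
  refine eq_zero_of_locally F _ fun z => ?_
  obtain ⟨T', g, t', hg, ht, e⟩ := hk z
  obtain ⟨P, a, b, hab, hP, -⟩ := exists_pullback k g
  obtain ⟨q, hq, -⟩ := Scheme.exists_preimage_of_isPullback hP z t' ht.symm
  refine ⟨P, a, q, MorphismProperty.of_isPullback (P := EtCoh.etaleMP.{u}) hP.flip hg, hq, ?_⟩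
  rw [map_sub, sub_eq_zero, map_map', map_map', hab, ← map_map', e, map_map',
    show a ≫ k ≫ p = b ≫ g ≫ p by rw [← Category.assoc, hab, Category.assoc]]

end Local

/-- Over a trivializing etale scheme the sheaf is represented by a trivial cover. -/
theorem exists_rep_local {U : S.Etale} {M : Type} [AddCommGroup M] [Finite M]
    (s : M →+ F.obj.obj (op U)) (hs : IsTriv F U s) :
    ∃ (A : Over S) (r : A ⟶ (EtFppf.a S).obj U) (ξ : (fam F).obj A),
      (fam F).IsRepOn r ξ ∧ IsFinite r.left ∧ AlgebraicGeometry.Etale r.left := by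
  let n := Nat.card M
  let σ : ULift.{u} (Fin n) ≃ M := Equiv.ulift.trans (Finite.equivFin M).symm
  let P : ULift.{u} (Fin n) → Over S := fun _ => (EtFppf.a S).obj U
  let r : sig P ⟶ (EtFppf.a S).obj U := Over.homMk (Sigma.desc fun _ => 𝟙 U.left) (by
    refine Sigma.hom_ext _ _ fun i => ?_
    refine (Sigma.ι_desc_assoc _ _ _).trans ?_
    refine (Category.id_comp _).trans ?_
    exact (Sigma.ι_desc (fun i => (P i).hom) i).symm)
  have hr : ∀ i, inc P i ≫ r = 𝟙 _ := fun i => Over.OverMorphism.ext (Sigma.ι_desc _ _)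
  obtain ⟨ξ, hξ⟩ := zarGlue F (sig P) _ P (inc P) (inc_openFamily P) (fun i => ev F U (s (σ i))) (by
    intro i k Z a b e
    by_cases hik : i = k
    · subst hik
      haveI : IsOpenImmersion (inc P i).left := (inc_openFamily P).isOpenImmersion i
      haveI : Mono (inc P i) := Over.mono_of_mono_left _
      rw [(cancel_mono _).1 e]
    · haveI := isEmpty_of_inc a b e hik
      exact ((zarSep F).subsingleton Z).elim _ _)
  refine ⟨sig P, r, ξ, fun T p (x : (G F).obj.obj (op T)) => ?_, ?_, ?_⟩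
  · let O : ULift.{u} (Fin n) → T.left.Opens := fun i => ⟨locus F s p x (σ i), isOpen_locus p x _⟩
    let V : ULift.{u} (Fin n) → Over S := fun i => Over.mk ((O i).ι ≫ T.hom)
    let k : ∀ i, V i ⟶ T := fun i => Over.homMk (O i).ι rfl
    have hV : IsOpenFamily V k := ⟨fun i => inferInstanceAs (IsOpenImmersion (O i).ι), fun t => by
      obtain ⟨m, hm⟩ := exists_mem_locus p x hs t
      refine ⟨σ.symm m, ⟨t, ?_⟩, rfl⟩
      show t ∈ locus F s p x (σ (σ.symm m))
      rwa [σ.apply_symm_apply]⟩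
    have hmem : ∀ i (z : (V i).left), (k i).left z ∈ locus F s p x (σ i) := fun i z => z.2
    obtain ⟨a, ha⟩ := hV.exists_glue (fun i => k i ≫ p ≫ inc P i) fun i l Z c d e => by
      by_cases hil : i = l
      · subst hil
        rw [← Category.assoc, ← Category.assoc d, e]
      · haveI : IsEmpty Z.left := ⟨fun z => hil (σ.injective (locus_disjoint p x hs
          (t := (c ≫ k i).left z)
          ((comp_left_apply c (k i) z).symm ▸ hmem i (c.left z))
          (((congrArg (fun m : Z ⟶ T => m.left z) e).trans (comp_left_apply d (k l) z)).symm ▸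
            hmem l (d.left z))))⟩
        exact Over.OverMorphism.ext (isInitialOfIsEmpty.hom_ext _ _)
    refine ⟨a, ⟨hV.hom_ext fun i => ?_, ?_⟩, fun c hc => hV.hom_ext fun i => ?_⟩
    · rw [← Category.assoc, ha, Category.assoc, Category.assoc, hr, Category.comp_id]
    · refine zarSep F T _ V k hV _ _ fun i => ?_
      rw [← (fam F).res_comp, ha, ← Category.assoc, (fam F).res_comp, hξ]
      exact (map_eq_of_locus p x (k i) _ (hmem i)).symm
    · haveI : IsOpenImmersion (inc P i).left := (inc_openFamily P).isOpenImmersion i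
      have hsub : Set.range (k i ≫ c).left ⊆ Set.range (inc P i).left := by
        rintro _ ⟨z, rfl⟩
        obtain ⟨j, w, hw⟩ := (inc_openFamily P).covers ((k i ≫ c).left z)
        suffices hji : σ j = σ i by
          obtain rfl := σ.injective hji
          exact ⟨w, hw⟩
        haveI : IsOpenImmersion (inc P j).left := (inc_openFamily P).isOpenImmersion j
        let N : T.left.Opens := c.left ⁻¹ᵁ (inc P j).left.opensRange
        let e : Over.mk (N.ι ≫ T.hom) ⟶ T := Over.homMk N.ι rfl
        have hN : Set.range (N.ι ≫ c.left) ⊆ Set.range (inc P j).left := by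
          rintro _ ⟨v, rfl⟩
          exact v.2
        let l : Over.mk (N.ι ≫ T.hom) ⟶ P j :=
          Over.homMk (IsOpenImmersion.lift (inc P j).left (N.ι ≫ c.left) hN) (by
            show IsOpenImmersion.lift (inc P j).left (N.ι ≫ c.left) hN ≫ (P j).hom = N.ι ≫ T.hom
            rw [← Over.w (inc P j), IsOpenImmersion.lift_fac_assoc, Category.assoc, Over.w c])
        have hl : l ≫ inc P j = e ≫ c := Over.OverMorphism.ext (IsOpenImmersion.lift_fac _ _ _)
        have hlp : l = e ≫ p := by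
          rw [← hc.1, ← Category.assoc, ← hl, Category.assoc, hr, Category.comp_id]
        have hx : (fam F).res e x = (fam F).res (e ≫ p) (ev F U (s (σ j))) := by
          rw [← hc.2, ← (fam F).res_comp, ← hl, (fam F).res_comp, hξ, hlp]
        have hzN : (k i).left z ∈ N := ⟨w, hw.trans (comp_left_apply (k i) c z)⟩
        exact (locus_disjoint p x hs (hmem i z) ⟨_, e, ⟨_, hzN⟩,
          inferInstanceAs (AlgebraicGeometry.Etale N.ι), rfl, hx⟩).symm
      let l : V i ⟶ P i :=
        Over.homMk (IsOpenImmersion.lift (inc P i).left (k i ≫ c).left hsub) (by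
          show IsOpenImmersion.lift (inc P i).left (k i ≫ c).left hsub ≫ (P i).hom = _
          rw [← Over.w (inc P i), IsOpenImmersion.lift_fac_assoc, Over.w (k i ≫ c)])
      have hl : l ≫ inc P i = k i ≫ c := Over.OverMorphism.ext (IsOpenImmersion.lift_fac _ _ _)
      have hlp : l = k i ≫ p := by
        rw [← hc.1, ← Category.assoc, ← hl, Category.assoc, hr, Category.comp_id]
      rw [ha, ← hl, hlp, Category.assoc]
  · haveI := FEtGal.isFinite_foldId (Y := U.left) n
    let e : (∐ fun _ : ULift.{u} (Fin n) => U.left) ≅ ∐ fun _ : Fin n => U.left :=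
      { hom := Sigma.desc fun i => Sigma.ι (fun _ : Fin n => U.left) i.down
        inv := Sigma.desc fun i => Sigma.ι (fun _ : ULift.{u} (Fin n) => U.left) ⟨i⟩
        hom_inv_id := Sigma.hom_ext _ _ fun i => by simp
        inv_hom_id := Sigma.hom_ext _ _ fun i => by simp }
    have he : Sigma.desc (fun _ : ULift.{u} (Fin n) => 𝟙 U.left) = e.hom ≫ Sigma.desc fun _ : Fin n => 𝟙 U.left :=
      Sigma.hom_ext _ _ fun i => by simp [e]
    show IsFinite (Sigma.desc fun _ : ULift.{u} (Fin n) => 𝟙 U.left)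
    rw [he]
    haveI : IsIso e.hom := ⟨e.inv, e.hom_inv_id, e.inv_hom_id⟩
    exact (MorphismProperty.cancel_left_of_respectsIso (@IsFinite : MorphismProperty Scheme.{u}) e.hom _).2
      (FEtGal.isFinite_foldId (Y := U.left) n)
  · exact FEtGal.etale_foldId

/-- A finite locally constant sheaf is represented by a finite etale scheme. -/
theorem exists_rep (h : EtCoh.IsFiniteLocallyConstant F) :
    ∃ (A : Over S) (η : (fam F).obj A),
      (fam F).IsRep A η ∧ IsFinite A.hom ∧ AlgebraicGeometry.Etale A.hom := by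
  obtain ⟨ι, U, hU, hF⟩ := h
  choose M instM hfin ε using hF
  have hloc : ∀ i, ∃ (A : Over S) (r : A ⟶ (EtFppf.a S).obj (U i)) (ξ : (fam F).obj A),
      (fam F).IsRepOn r ξ ∧ IsFinite r.left ∧ AlgebraicGeometry.Etale r.left := fun i => by
    obtain ⟨e⟩ := ε i
    obtain ⟨s, hs⟩ := exists_isTriv F (U i) e
    exact exists_rep_local F s hs
  choose A r ξ hrep hrf hre using hloc
  let P : ι → Over S := fun i => (EtFppf.a S).obj (U i)
  obtain ⟨η₁, hη₁, -⟩ := Fam.exists_isRepOn_sigma (P := P) (r := r) (zarSep F) (zarGlue F) hrep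
  haveI : AlgebraicGeometry.Etale (sig P).hom := IsZariskiLocalAtSource.sigmaDesc fun i => (U i).prop
  haveI : Surjective (sig P).hom := ⟨fun x => by
    obtain ⟨i, z, hz⟩ := hU x
    refine ⟨(inc P i).left z, ?_⟩
    exact ((Scheme.Hom.comp_apply (inc P i).left (sig P).hom z).symm.trans
      (congrArg (fun m : (P i).left ⟶ S => m z) (Over.w (inc P i)))).trans hz⟩
  let 𝒰 : (sig P).left.OpenCover := sigmaOpenCover fun i => (P i).left
  have hQ : ∀ (Q : MorphismProperty Scheme.{u}) [IsZariskiLocalAtTarget Q], (∀ i, Q (r i).left) →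
      Q (sigMap r).left := by
    intro Q _ hq
    refine IsZariskiLocalAtTarget.of_openCover 𝒰 fun i => ?_
    show Q (pullback.snd (sigMap r).left (inc P i).left)
    rw [← (isPullback_inc (r := r) i).flip.isoPullback_inv_snd]
    exact (MorphismProperty.cancel_left_of_respectsIso Q _ _).2 (hq i)
  haveI hf : IsFinite (sigMap r).left := hQ @IsFinite hrf
  have he : AlgebraicGeometry.Etale (sigMap r).left := hQ @AlgebraicGeometry.Etale hre
  obtain ⟨A₀, η, hη, q, sq, -⟩ := hη₁.exists_rep
    (Groth.L20.isIndQuasiAffineHom_of_isQuasiAffineHom _ ⟨inferInstance, fun V hV => by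
      have : IsAffine ((sigMap r).left ⁻¹ᵁ V) := hV.preimage (sigMap r).left
      infer_instance⟩) (sep_fst F (sig P)) (desc_fst F (sig P))
  have hp : (@Surjective ⊓ @Flat ⊓ @LocallyOfFinitePresentation : MorphismProperty Scheme.{u}) (sig P).hom :=
    ⟨⟨inferInstance, inferInstance⟩, inferInstance⟩
  exact ⟨A₀, η, hη,
    MorphismProperty.of_isPullback_of_descendsAlong (P := (@IsFinite : MorphismProperty Scheme.{u})) sq hp hf,
    MorphismProperty.of_isPullback_of_descendsAlong (P := (@AlgebraicGeometry.Etale : MorphismProperty Scheme.{u})) sq hp he⟩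

end Groth.L27.FLC
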