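import Groth.Agent.L27.NormalSepClosed.ConstSect
import Mathlib.Topology.Connected.Clopen

/-! # Maps out of constant sheaves and sections of constant sheaves on connected schemes -/

set_option autoImplicit false
universe u

open CategoryTheory CategoryTheory.Limits AlgebraicGeometry Opposite TopologicalSpace

set_option backward.isDefEq.respectTransparency.types false
set_option linter.style.haveILetI false

namespace Groth.L27.FLC

open ConstSect

variable {X : Scheme.{u}} (M : AddCommGrpCat.{u + 1})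

/-- The structure map to the terminal object. -/
noncomputable def toTop (Q : X.Etale) : Q ⟶ EtCoh.top X :=
  (EtCore.topIsTerminal X).from Q

theorem comp_toTop {Q Q' : X.Etale} (d : Q' ⟶ Q) : d ≫ toTop Q = toTop Q' :=
  (EtCore.topIsTerminal X).hom_ext _ _

theorem map_map {H : EtCoh.Ab X} {U V W : X.Etale} (g : V ⟶ U) (k : W ⟶ V) (x : H.obj.obj (op U)) :
    H.obj.map k.op (H.obj.map g.op x) = H.obj.map (k ≫ g).op x :=
  (Functor.map_comp_apply H.obj g.op k.op x).symm

variable {M}

theorem app_cst {H : EtCoh.Ab X} (f : K M X ⟶ H) (Q : X.Etale) (m : M) :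
    f.hom.app (op Q) (cst M Q m) = H.obj.map (toTop Q).op (f.hom.app (op (EtCoh.top X)) (cst M _ m)) :=
  (congrArg (f.hom.app (op Q)) (map_cst M (toTop Q) m).symm).trans
    (NatTrans.naturality_apply f.hom (toTop Q).op _)

/-- Maps out of a constant sheaf are determined by the images of the constant global sections. -/
theorem hom_ext_top {H : EtCoh.Ab X} {f g : K M X ⟶ H}
    (h : ∀ m : M, f.hom.app (op (EtCoh.top X)) (cst M _ m) = g.hom.app (op (EtCoh.top X)) (cst M _ m)) :
    f = g := by
  refine ObjectProperty.hom_ext _ ?_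
  refine NatTrans.ext (funext fun Q => ConcreteCategory.hom_ext _ _ fun s => ?_)
  refine EtSite.ext_of_locally H (U := Q.unop) fun x => ?_
  obtain ⟨W, d, w, a, hw, e⟩ := exists_locally_cst M (U := Q.unop) s x
  refine ⟨W, d, w, hw, ?_⟩
  refine (NatTrans.naturality_apply f.hom d.op s).symm.trans
    (Eq.trans ?_ (NatTrans.naturality_apply g.hom d.op s))
  show f.hom.app (op W) ((K M X).obj.map d.op s) = g.hom.app (op W) ((K M X).obj.map d.op s)
  rw [e]
  exact (app_cst f W a).trans ((congrArg (H.obj.map (toTop W).op) (h a)).trans (app_cst g W a).symm)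

/-- The map out of the constant sheaf attached to global sections. -/
theorem exists_constMap {H : EtCoh.Ab X} (φ : M →+ H.obj.obj (op (EtCoh.top X))) :
    ∃ f : K M X ⟶ H, ∀ (Q : X.Etale) (m : M), f.hom.app (op Q) (cst M Q m) = H.obj.map (toTop Q).op (φ m) := by
  let α : (Functor.const X.Etaleᵒᵖ).obj M ⟶ H.obj :=
    { app := fun Q => AddCommGrpCat.ofHom φ ≫ H.obj.map (toTop Q.unop).op
      naturality := fun Q Q' d => by
        refine ConcreteCategory.hom_ext _ _ fun m => ?_
        show H.obj.map (toTop Q'.unop).op (φ m) = H.obj.map d.unop.op (H.obj.map (toTop Q.unop).op (φ m))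
        rw [map_map, comp_toTop] }
  refine ⟨⟨sheafifyLift X.smallEtaleTopology α H.property⟩, fun Q m => ?_⟩
  exact ConcreteCategory.congr_hom
    (congrArg (fun k => k.app (op Q)) (toSheafify_sheafifyLift X.smallEtaleTopology α H.property)) m

/-- A map out of a constant sheaf is an isomorphism when every section is locally a constant and
constants only vanish on the empty scheme. -/
theorem isIso_of_sections {H : EtCoh.Ab X} (f : K M X ⟶ H)
    (hinj : ∀ (Q : X.Etale), Nonempty Q.left → ∀ m : M, f.hom.app (op Q) (cst M Q m) = 0 → m = 0)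
    (hsurj : ∀ (Q : X.Etale) (x : H.obj.obj (op Q)) (q : Q.left),
      ∃ (Q' : X.Etale) (d : Q' ⟶ Q) (q' : Q'.left) (m : M),
        d.left q' = q ∧ H.obj.map d.op x = f.hom.app (op Q') (cst M Q' m)) : IsIso f := by
  haveI : Sheaf.IsLocallyInjective f := by
    constructor
    intro Q x y e
    refine (EtSite.mem_topology_iff _).2 fun q => ?_
    obtain ⟨W, a, w, m, hw, ea⟩ := exists_locally_cst M x q
    obtain ⟨W', b, w', n, hw', eb⟩ := exists_locally_cst M y q
    obtain ⟨Z, c, d, z, hc, hd, hcd⟩ := EtSite.exists_common a b w w' (hw.trans hw'.symm)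
    refine ⟨Z, c ≫ a, z, ?_, ?_⟩
    · show (K M X).obj.map (c ≫ a).op x = (K M X).obj.map (c ≫ a).op y
      rw [← map_map, ea, map_cst]
      rw [hcd, ← map_map, eb, map_cst]
      refine congrArg (cst M Z) (sub_eq_zero.1 (hinj Z ⟨z⟩ _ ?_))
      rw [map_sub, map_sub, sub_eq_zero, ← map_cst M c m, ← map_cst M d n, ← ea, ← eb]
      have h1 := NatTrans.naturality_apply f.hom (c ≫ a).op x
      have h2 := NatTrans.naturality_apply f.hom (d ≫ b).op y
      rw [map_map, map_map]
      exact h1.trans (((congrArg (fun k => H.obj.map (Quiver.Hom.op k) (f.hom.app _ x)) hcd).trans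
        (congrArg (H.obj.map (d ≫ b).op) e)).trans h2.symm)
    · rw [← hw, ← hc]
      exact Scheme.Hom.comp_apply c.left a.left z
  haveI : Sheaf.IsLocallySurjective f := by
    constructor
    intro Q x
    refine (EtSite.mem_topology_iff _).2 fun q => ?_
    obtain ⟨Q', d, q', m, hq, e⟩ := hsurj Q x q
    exact ⟨Q', d, q', ⟨cst M Q' m, e.symm⟩, hq⟩
  exact (Sheaf.isLocallyBijective_iff_isIso f).1 ⟨inferInstance, inferInstance⟩

/-- On a connected scheme the sections of a constant sheaf are the constants. -/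
theorem exists_eq_cst_of_connected (U : X.Etale) [ConnectedSpace U.left]
    (s : (K M X).obj.obj (op U)) : ∃ a, s = cst M U a := by
  let L : M → Set U.left := fun a =>
    {x | ∃ (W : X.Etale) (g : W ⟶ U) (w : W.left), g.left w = x ∧ (K M X).obj.map g.op s = cst M W a}
  have hopen : ∀ a, IsOpen (L a) := fun a => by
    refine isOpen_iff_forall_mem_open.2 fun x hx => ?_
    obtain ⟨W, g, w, rfl, e⟩ := hx
    haveI : AlgebraicGeometry.Etale g.left := EtSite.etale_left g
    exact ⟨Set.range g.left, by rintro _ ⟨v, rfl⟩; exact ⟨W, g, v, rfl, e⟩,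
      g.left.isOpenMap.isOpen_range, ⟨w, rfl⟩⟩
  have hcov : ∀ x, ∃ a, x ∈ L a := fun x => by
    obtain ⟨W, g, w, a, hw, e⟩ := exists_locally_cst M s x
    exact ⟨a, W, g, w, hw, e⟩
  have hdisj : ∀ a b x, x ∈ L a → x ∈ L b → a = b := by
    rintro a b x ⟨W, g, w, hw, e⟩ ⟨W', g', w', hw', e'⟩
    obtain ⟨T, p, q, t, -, -, hpq⟩ := EtSite.exists_common g g' w w' (hw.trans hw'.symm)
    haveI : Nonempty T.left := ⟨t⟩
    refine cst_injective M T ?_
    rw [← map_cst M p a, ← e, ← map_cst M q b, ← e', map_map, map_map, hpq]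
  obtain ⟨x₀⟩ : Nonempty U.left := inferInstance
  obtain ⟨a, ha⟩ := hcov x₀
  have hc : IsClopen (L a) := by
    refine ⟨⟨?_⟩, hopen a⟩
    rw [show (L a)ᶜ = ⋃ b ∈ {b | b ≠ a}, L b from ?_]
    · exact isOpen_biUnion fun b _ => hopen b
    ext x
    simp only [Set.mem_compl_iff, Set.mem_iUnion, Set.mem_ofPred_eq, exists_prop]
    constructor
    · intro hx
      obtain ⟨b, hb⟩ := hcov x
      exact ⟨b, fun h => hx (h ▸ hb), hb⟩
    · rintro ⟨b, hne, hb⟩ hx
      exact hne (hdisj b a x hb hx)
  refine ⟨a, EtSite.ext_of_locally _ fun x => ?_⟩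
  obtain ⟨W, g, w, hw, e⟩ := (hc.eq_univ ⟨x₀, ha⟩).ge (Set.mem_univ x)
  exact ⟨W, g, w, hw, by rw [e, map_cst]⟩

theorem bijective_cst_top [ConnectedSpace X] :
    Function.Bijective (cst M (EtCoh.top X)) := by
  haveI : ConnectedSpace (EtCoh.top X).left := inferInstanceAs (ConnectedSpace X)
  haveI : Nonempty (EtCoh.top X).left := inferInstance
  exact ⟨cst_injective M _, fun s => (exists_eq_cst_of_connected (EtCoh.top X) s).imp fun _ h => h.symm⟩

/-- Constant sheaves are fully faithful on connected schemes. -/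
theorem exists_map_eq [ConnectedSpace X] {N : AddCommGrpCat.{u + 1}} (f : K M X ⟶ K N X) :
    ∃ φ : M ⟶ N, (constantSheaf X.smallEtaleTopology AddCommGrpCat.{u + 1}).map φ = f := by
  let e := AddEquiv.ofBijective (cst N (EtCoh.top X)) bijective_cst_top
  let φ : M ⟶ N := AddCommGrpCat.ofHom
    (e.symm.toAddMonoidHom.comp ((f.hom.app (op (EtCoh.top X))).hom.comp (cst M (EtCoh.top X))))
  refine ⟨φ, hom_ext_top fun m => ?_⟩
  refine (ConcreteCategory.congr_hom (congrArg (fun k => k.app (op (EtCoh.top X)))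
    (toSheafify_naturality X.smallEtaleTopology ((Functor.const X.Etaleᵒᵖ).map φ))) m).symm.trans ?_
  exact e.apply_symm_apply _

end Groth.L27.FLC
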