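import Groth.Agent.L27.FLC.Rep
import Groth.Agent.L27.FLC.Const
import Groth.Agent.L28.LocConstAb.Serre
import Groth.Agent.L28.ExtShriek.ConstIso
import Groth.Prelude.Def_EtCore
import Mathlib.Algebra.Homology.DerivedCategory.Ext.ExactSequences
import Mathlib.Algebra.Homology.DerivedCategory.Ext.Map
import Mathlib.Algebra.Homology.DerivedCategory.Ext.EnoughInjectives
import Mathlib.CategoryTheory.Abelian.GrothendieckCategory.EnoughInjectives
import Mathlib.Data.ZMod.Basic

/-! # Degree one classes of finite locally constant sheaves die on finite etale covers -/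

set_option autoImplicit false
universe u

open CategoryTheory CategoryTheory.Limits AlgebraicGeometry Opposite

set_option backward.isDefEq.respectTransparency.types false
set_option linter.style.haveILetI false

noncomputable section

namespace Groth.L27.FLC

open ConstSect

variable {X : Scheme.{u}}

/-- The places where a section of a constant sheaf equals a given constant. -/
def cstLocus {M : AddCommGrpCat.{u + 1}} {U : X.Etale} (s : (K M X).obj.obj (op U)) (a : M) : Set U.left :=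
  {x | ∃ (W : X.Etale) (g : W ⟶ U) (w : W.left), g.left w = x ∧ (K M X).obj.map g.op s = cst M W a}

theorem isOpen_cstLocus {M : AddCommGrpCat.{u + 1}} {U : X.Etale} (s : (K M X).obj.obj (op U)) (a : M) :
    IsOpen (cstLocus s a) := by
  refine isOpen_iff_forall_mem_open.2 fun x hx => ?_
  obtain ⟨W, g, w, rfl, e⟩ := hx
  haveI : AlgebraicGeometry.Etale g.left := EtSite.etale_left g
  exact ⟨Set.range g.left, by rintro _ ⟨v, rfl⟩; exact ⟨W, g, v, rfl, e⟩,
    g.left.isOpenMap.isOpen_range, ⟨w, rfl⟩⟩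

theorem cstLocus_disjoint {M : AddCommGrpCat.{u + 1}} {U : X.Etale} (s : (K M X).obj.obj (op U)) {a b : M}
    {x : U.left} : x ∈ cstLocus s a → x ∈ cstLocus s b → a = b := by
  rintro ⟨W, g, w, hw, e⟩ ⟨W', g', w', hw', e'⟩
  obtain ⟨T, p, q, t, -, -, hpq⟩ := EtSite.exists_common g g' w w' (hw.trans hw'.symm)
  haveI : Nonempty T.left := ⟨t⟩
  refine cst_injective M T ?_
  rw [← map_cst M p a, ← e, ← map_cst M q b, ← e', map_map, map_map, hpq]

theorem isClosed_cstLocus {M : AddCommGrpCat.{u + 1}} {U : X.Etale} (s : (K M X).obj.obj (op U)) (a : M) :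
    IsClosed (cstLocus s a) := by
  constructor
  rw [show (cstLocus s a)ᶜ = ⋃ b ∈ {b | b ≠ a}, cstLocus s b from ?_]
  · exact isOpen_biUnion fun b _ => isOpen_cstLocus s b
  ext x
  simp only [Set.mem_compl_iff, Set.mem_iUnion, Set.mem_ofPred_eq, exists_prop]
  constructor
  · intro hx
    obtain ⟨W, g, w, b, hw, e⟩ := exists_locally_cst M s x
    exact ⟨b, fun h => hx (h ▸ ⟨W, g, w, hw, e⟩), ⟨W, g, w, hw, e⟩⟩
  · rintro ⟨b, hne, hb⟩ hx
    exact hne (cstLocus_disjoint s hb hx)

/-- An epimorphism from a finite locally constant sheaf onto a constant sheaf has, after a finite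
etale surjective base change, a section over any constant. -/
theorem exists_cover_section {E : EtCoh.Ab X} (hE : EtCoh.IsFiniteLocallyConstant E) {M : AddCommGrpCat.{u + 1}}
    (p : E ⟶ K M X) [Epi p] (a : M) :
    ∃ (O : X.Etale) (s : E.obj.obj (op O)), IsFinite O.hom ∧ Surjective O.hom ∧
      p.hom.app (op O) s = cst M O a := by
  obtain ⟨A, η, hη, hfin, het⟩ := exists_rep E hE
  let U : X.Etale := Scheme.Etale.mk A.hom
  haveI : IsFinite U.hom := hfin
  haveI : AlgebraicGeometry.Etale U.hom := het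
  obtain ⟨η', hη'⟩ : ∃ η' : E.obj.obj (op U), ev E U η' = η := ev_surjective E U η
  let t := p.hom.app (op U) η'
  let V : U.left.Opens := ⟨cstLocus t a, isOpen_cstLocus t a⟩
  haveI : IsClosedImmersion V.ι := IsClosedImmersion.of_isPreimmersion V.ι (by
    rw [Scheme.Opens.range_ι]; exact isClosed_cstLocus t a)
  let O : X.Etale := Scheme.Etale.mk (V.ι ≫ U.hom)
  let ι : O ⟶ U := MorphismProperty.Over.homMk V.ι rfl
  refine ⟨O, E.obj.map ι.op η', MorphismProperty.comp_mem _ _ _
    (inferInstance : IsFinite V.ι) (inferInstance : IsFinite U.hom), ⟨fun x => ?_⟩, ?_⟩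
  · haveI : Sheaf.IsLocallySurjective p := (Sheaf.isLocallySurjective_iff_epi' AddCommGrpCat.{u + 1} p).2 ‹Epi p›
    obtain ⟨W, g, w, ⟨e, he⟩, hw⟩ := (EtSite.mem_topology_iff _).1
      (Presheaf.imageSieve_mem X.smallEtaleTopology p.hom (U := op (EtCoh.top X)) (cst M (EtCoh.top X) a)) x
    obtain ⟨c, hc, -⟩ := hη ((EtFppf.a X).obj W) (ev E W e)
    let c' : W ⟶ U := MorphismProperty.Over.homMk c.left (Over.w c)
    have hmap : E.obj.map c'.op η' = e := by
      refine ev_injective E W ?_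
      rw [ev_nat, hη', ← hc]
      exact congrArg (fun k => (fam E).res k η) (Over.OverMorphism.ext rfl)
    have hmem : c'.left w ∈ cstLocus t a := by
      refine ⟨W, c', w, rfl, ?_⟩
      refine (NatTrans.naturality_apply p.hom c'.op η').symm.trans ?_
      show p.hom.app (op W) (E.obj.map c'.op η') = _
      rw [hmap]
      exact he.trans (map_cst M g a)
    refine ⟨⟨c'.left w, hmem⟩, ?_⟩
    show (V.ι ≫ U.hom) ⟨c'.left w, hmem⟩ = x
    rw [Scheme.Hom.comp_apply]
    show U.hom (c'.left w) = x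
    rw [← Scheme.Hom.comp_apply, MorphismProperty.Over.w c', ← hw]
    exact congrArg (fun k : W.left ⟶ X => k w) ((MorphismProperty.Over.w g).symm.trans (Category.comp_id _))
  · refine EtSite.ext_of_locally _ fun z => ?_
    obtain ⟨W, g, w, hw, e⟩ := z.2
    obtain ⟨W', b, c, w', -, hb, hbc⟩ := EtSite.exists_common g ι w z hw
    refine ⟨W', c, w', hb, ?_⟩
    have h1 : (K M X).obj.map c.op (p.hom.app (op O) (E.obj.map ι.op η')) = (K M X).obj.map (c ≫ ι).op t :=
      (congrArg ((K M X).obj.map c.op) (NatTrans.naturality_apply p.hom ι.op η')).trans (map_map ι c _)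
    rw [h1, ← hbc, ← map_map, e, map_cst, map_cst]

/-- The reduction map `ℤ → ℤ/n` on constant sheaves. -/
def red (n : ℕ) : AddCommGrpCat.of (ULift.{u + 1} ℤ) ⟶ AddCommGrpCat.of (ULift.{u + 1} (ZMod n)) :=
  AddCommGrpCat.ofHom ((AddEquiv.ulift.symm.toAddMonoidHom.comp (Int.castAddHom (ZMod n))).comp
    AddEquiv.ulift.toAddMonoidHom)

theorem exists_shortExact_zmod (n : ℕ) [NeZero n] (Y : Scheme.{u}) :
    ∃ (w : (n • 𝟙 (EtCoh.const Y ℤ)) ≫ (constantSheaf Y.smallEtaleTopology AddCommGrpCat.{u + 1}).map (red n) = 0),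
      (ShortComplex.mk _ _ w).ShortExact := by
  haveI : (EtCore.gsec Y).Additive := { }
  haveI : (constantSheaf Y.smallEtaleTopology AddCommGrpCat.{u + 1}).Additive :=
    (EtCore.constAdj Y).left_adjoint_additive
  let Z := AddCommGrpCat.of (ULift.{u + 1} ℤ)
  have w₀ : (n • 𝟙 Z) ≫ red n = 0 := ConcreteCategory.hom_ext _ _ fun m => ULift.ext _ _ (by
    show ((n • m.down : ℤ) : ZMod n) = 0
    simp)
  have h₀ : (ShortComplex.mk _ _ w₀).ShortExact := by
    refine ShortComplex.ShortExact.mk' ?_ ((AddCommGrpCat.mono_iff_injective _).2 ?_)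
      ((AddCommGrpCat.epi_iff_surjective _).2 ?_)
    · rw [ShortComplex.ab_exact_iff]
      rintro ⟨m⟩ hm
      obtain ⟨k, rfl⟩ := (ZMod.intCast_zmod_eq_zero_iff_dvd m n).1 (congrArg ULift.down hm)
      exact ⟨⟨k⟩, ULift.ext _ _ (by show n • k = (n : ℤ) * k; simp)⟩
    · rintro ⟨a⟩ ⟨b⟩ hab
      have h : n • a = n • b := congrArg ULift.down hab
      simp only [nsmul_eq_mul] at h
      exact ULift.ext _ _ (mul_left_cancel₀ (Nat.cast_ne_zero.2 (NeZero.ne n)) h)
    · rintro ⟨k⟩
      obtain ⟨m, rfl⟩ := ZMod.intCast_surjective k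
      exact ⟨⟨m⟩, rfl⟩
  haveI : PreservesFiniteLimits (constantSheaf Y.smallEtaleTopology AddCommGrpCat.{u + 1}) :=
    comp_preservesFiniteLimits (Functor.const Y.Etaleᵒᵖ) (presheafToSheaf Y.smallEtaleTopology AddCommGrpCat.{u + 1})
  haveI := (EtCore.constAdj Y).leftAdjoint_preservesColimits
  have h := h₀.map_of_exact (constantSheaf Y.smallEtaleTopology AddCommGrpCat.{u + 1})
  have e : (constantSheaf Y.smallEtaleTopology AddCommGrpCat.{u + 1}).map (n • 𝟙 Z) = n • 𝟙 (EtCoh.const Y ℤ) := by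
    rw [Functor.map_nsmul, CategoryTheory.Functor.map_id]
  refine ⟨?_, ShortComplex.shortExact_of_iso ?_ h⟩
  · rw [← e, ← Functor.map_comp, w₀, Functor.map_zero]
  · exact ShortComplex.isoMk (Iso.refl _) (Iso.refl _) (Iso.refl _)
      ((Category.id_comp _).trans (e.symm.trans (Category.comp_id _).symm))
      ((Category.id_comp _).trans (Category.comp_id _).symm)

theorem nsmul_id_eq_zero {n : ℕ} {F : EtCoh.Ab X} (h : EtCoh.KilledBy n F) : n • 𝟙 F = 0 :=
  ObjectProperty.hom_ext _ (NatTrans.ext (funext fun U => ConcreteCategory.hom_ext _ _ fun s => by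
    show (n • 𝟙 F).hom.app U s = 0
    exact h U.unop s))

/-- A class in `H¹` of a finite locally constant sheaf dies on a finite etale cover. -/
theorem exists_cover_killing {Y : Scheme.{u}} (F : EtCoh.Ab Y) (hF : EtCoh.IsFiniteLocallyConstant F)
    (n : ℕ) [NeZero n] (hn : EtCoh.KilledBy n F) (ζ : EtCoh.H Y F 1) :
    ∃ (Y' : Scheme.{u}) (g : Y' ⟶ Y), IsFinite g ∧ AlgebraicGeometry.Etale g ∧ Surjective g ∧
      ∀ [PreservesFiniteLimits (EtCoh.pull g)], EtCore.Hpull g F 1 ζ = 0 := by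
  obtain ⟨w₀, hS₀⟩ := exists_shortExact_zmod n Y
  have hζ : (Abelian.Ext.mk₀ (n • 𝟙 (EtCoh.const Y ℤ))).comp ζ (zero_add 1) = 0 := by
    have h1 : ∀ k : ℕ, (Abelian.Ext.mk₀ (k • 𝟙 (EtCoh.const Y ℤ))).comp ζ (zero_add 1) = k • ζ ∧
        ζ.comp (Abelian.Ext.mk₀ (k • 𝟙 F)) (add_zero 1) = k • ζ := fun k => by
      induction k with
      | zero => simp
      | succ k ih => simp [succ_nsmul, Abelian.Ext.mk₀_add, ih.1, ih.2]
    rw [(h1 n).1, ← (h1 n).2, nsmul_id_eq_zero hn, Abelian.Ext.mk₀_zero, Abelian.Ext.comp_zero]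
  obtain ⟨ξ, hξ⟩ := Abelian.Ext.contravariant_sequence_exact₂ hS₀ F ζ hζ
  let I := Injective.under F
  let S₁ : ShortComplex (EtCoh.Ab Y) :=
    ShortComplex.mk (Injective.ι F) (cokernel.π (Injective.ι F)) (cokernel.condition _)
  have hS₁ : S₁.ShortExact :=
    { exact := ShortComplex.exact_cokernel _
      mono_f := inferInstanceAs (Mono (Injective.ι F))
      epi_g := inferInstanceAs (Epi (cokernel.π (Injective.ι F))) }
  haveI : Injective S₁.X₂ := inferInstanceAs (Injective (Injective.under F))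
  obtain ⟨x₀, hx₀⟩ := Abelian.Ext.covariant_sequence_exact₁ _ hS₁ ξ (Abelian.Ext.eq_zero_of_injective _) rfl
  obtain ⟨s, rfl⟩ := (Abelian.Ext.mk₀_bijective _ _).2 x₀
  let N : AddCommGrpCat.{u + 1} := AddCommGrpCat.of (ULift.{u + 1} (ZMod n))
  let E := pullback S₁.g s
  let p : E ⟶ K N Y := pullback.snd S₁.g s
  let k : F ⟶ E := pullback.lift S₁.f 0 (by rw [zero_comp]; exact S₁.zero)
  haveI := hS₁.mono_f
  haveI := hS₁.epi_g
  haveI : Epi p := inferInstanceAs (Epi (pullback.snd S₁.g s))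
  haveI : Mono k := mono_of_mono_fac (pullback.lift_fst S₁.f 0 _)
  have hk : (ShortComplex.mk k p (pullback.lift_snd _ _ _)).ShortExact := by
    refine ShortComplex.ShortExact.mk' ?_ inferInstance inferInstance
    rw [ShortComplex.exact_iff_exact_up_to_refinements]
    intro A x hx
    have h1 : (x ≫ pullback.fst S₁.g s) ≫ S₁.g = 0 := by
      rw [Category.assoc, pullback.condition, reassoc_of% hx, zero_comp]
    obtain ⟨A', π, hπ, y, hy⟩ := hS₁.exact.exact_up_to_refinements _ h1
    refine ⟨A', π, hπ, y, pullback.hom_ext ?_ ?_⟩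
    · rw [Category.assoc, Category.assoc, pullback.lift_fst]
      exact hy
    · rw [Category.assoc, Category.assoc, pullback.lift_snd, hx, comp_zero, comp_zero]
  haveI := L28.LocConstAb.isClosedUnderExtensions (X := Y)
  have hE : EtCoh.IsFiniteLocallyConstant E :=
    ObjectProperty.prop_X₂_of_shortExact (fun F : EtCoh.Ab Y => EtCoh.IsFiniteLocallyConstant F) hk hF (L28.ExtShriek.isFLC_const Y (ZMod n))
  obtain ⟨O, s', hfin, hsurj, hs'⟩ := exists_cover_section hE p (⟨1⟩ : N)
  refine ⟨O.left, O.hom, hfin, O.prop, hsurj, ?_⟩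
  intro inst
  let g : O.left ⟶ Y := O.hom
  let ρ : (EtCoh.bc g).obj (EtCoh.top Y) ⟶ (EtCoh.bc g).obj O :=
    MorphismProperty.Over.homMk (pullback.lift (pullback.snd (𝟙 Y) g) (pullback.snd (𝟙 Y) g) rfl)
      (pullback.lift_snd _ _ _)
  let adj := EtCoh.pullPushAdj g
  let t : ((EtCoh.push g).obj ((EtCoh.pull g).obj E)).obj.obj (op (EtCoh.top Y)) :=
    ((EtCoh.pull g).obj E).obj.map ρ.op ((adj.unit.app E).hom.app (op O) s')
  obtain ⟨u₀, hu₀⟩ := exists_constMap (M := AddCommGrpCat.of (ULift.{u + 1} ℤ))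
    (H := (EtCoh.push g).obj ((EtCoh.pull g).obj E)) ((zmultiplesHom _ t).comp AddEquiv.ulift.toAddMonoidHom)
  let u := (adj.homEquiv _ _).symm u₀
  let red' : EtCoh.const Y ℤ ⟶ K N Y := (constantSheaf Y.smallEtaleTopology AddCommGrpCat.{u + 1}).map (red n)
  have hu : u ≫ (EtCoh.pull g).map p = (EtCoh.pull g).map red' := by
    refine (adj.homEquiv _ _).injective ?_
    rw [Adjunction.homEquiv_naturality_right, Equiv.apply_symm_apply, Adjunction.homEquiv_unit]
    refine Eq.trans ?_ (adj.unit_naturality red').symm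
    refine hom_ext_top fun m => ?_
    obtain ⟨m⟩ := m
    let T₀ := (EtCoh.bc g).obj (EtCoh.top Y)
    let η := (adj.unit.app (K N Y)).hom
    have hred : red'.hom.app (op (EtCoh.top Y)) (cst (AddCommGrpCat.of (ULift.{u + 1} ℤ)) _ ⟨m⟩) =
        m • cst N (EtCoh.top Y) ⟨1⟩ := by
      refine ((ConcreteCategory.congr_hom (congrArg (fun k => k.app (op (EtCoh.top Y)))
        (toSheafify_naturality Y.smallEtaleTopology ((Functor.const Y.Etaleᵒᵖ).map (red.{u} n)))) ⟨m⟩).symm).trans ?_
      show cst N (EtCoh.top Y) ⟨(m : ZMod n)⟩ = _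
      rw [← map_zsmul]
      exact congrArg (cst N (EtCoh.top Y)) (ULift.ext _ _ (zsmul_one m).symm)
    have ht : ((EtCoh.pull g).map p).hom.app (op T₀) t = η.app (op (EtCoh.top Y)) (cst N _ ⟨1⟩) := by
      refine (NatTrans.naturality_apply ((EtCoh.pull g).map p).hom ρ.op _).trans ?_
      have h1 : ((EtCoh.pull g).map p).hom.app (op ((EtCoh.bc g).obj O)) ((adj.unit.app E).hom.app (op O) s') =
          η.app (op O) (cst N O ⟨1⟩) := by
        rw [← hs']
        exact (ConcreteCategory.congr_hom (congrArg (fun k => k.hom.app (op O)) (adj.unit.naturality p)) s').symm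
      refine (congrArg (((EtCoh.pull g).obj (K N Y)).obj.map ρ.op) h1).trans ?_
      rw [← map_cst N (toTop O)]
      refine (congrArg (((EtCoh.pull g).obj (K N Y)).obj.map ρ.op)
        (NatTrans.naturality_apply η (toTop O).op (cst N _ ⟨1⟩))).trans ?_
      refine (map_map ((EtCoh.bc g).map (toTop O)) ρ _).trans ?_
      rw [((EtCore.topIsTerminal Y).isTerminalObj (EtCoh.bc g) (EtCoh.top Y)).hom_ext
        (ρ ≫ (EtCoh.bc g).map (toTop O)) (𝟙 _)]
      simp
    refine Eq.trans (b := ((EtCoh.pull g).map p).hom.app (op T₀) (m • t)) ?_ ?_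
    · show ((EtCoh.pull g).map p).hom.app (op T₀) (u₀.hom.app (op (EtCoh.top Y)) _) = _
      refine congrArg (((EtCoh.pull g).map p).hom.app (op T₀)) ((hu₀ _ _).trans ?_)
      show _ = m • t
      rw [show toTop (EtCoh.top Y) = 𝟙 _ from (EtCore.topIsTerminal Y).hom_ext _ _]
      simp
      rfl
    · show _ = η.app (op (EtCoh.top Y)) (red'.hom.app (op (EtCoh.top Y)) _)
      rw [hred]
      exact (map_zsmul (((EtCoh.pull g).map p).hom.app (op T₀)).hom m t).trans
        ((congrArg (m • ·) ht).trans (map_zsmul (η.app (op (EtCoh.top Y))).hom m _).symm)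
  have h0 : Abelian.Ext.mapExactFunctor (EtCoh.pull g) ζ = 0 := by
    rw [← hξ, ← hx₀, Abelian.Ext.mapExactFunctor_comp, Abelian.Ext.mapExactFunctor_comp,
      Abelian.Ext.mapExactFunctor_mk₀, Abelian.Ext.mapExactFunctor_mk₀]
    show (Abelian.Ext.mk₀ ((EtCoh.pull g).map red')).comp _ (zero_add 1) = 0
    rw [← hu, Abelian.Ext.mk₀_comp_mk₀_assoc]
    have hp : (u ≫ (EtCoh.pull g).map p) ≫ (EtCoh.pull g).map s =
        (u ≫ (EtCoh.pull g).map (pullback.fst S₁.g s)) ≫ (EtCoh.pull g).map S₁.g := by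
      rw [Category.assoc, Category.assoc, ← Functor.map_comp, ← Functor.map_comp, pullback.condition]
    rw [hp, ← Abelian.Ext.mk₀_comp_mk₀_assoc, ← Abelian.Ext.mapExactFunctor_mk₀ (EtCoh.pull g) S₁.g,
      ← Abelian.Ext.mapExactFunctor_comp, hS₁.comp_extClass, Abelian.Ext.mapExactFunctor_zero,
      Abelian.Ext.comp_zero]
  show (Abelian.Ext.mk₀ (EtCore.pullConst g ℤ).inv).comp (Abelian.Ext.mapExactFunctor (EtCoh.pull g) ζ) (zero_add 1) = 0
  rw [h0, Abelian.Ext.comp_zero]

end Groth.L27.FLC
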