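import Groth.Agent.S0106
import Groth.Agent.S0071
import Groth.Agent.L28.AcyComp.Basic
import Groth.Agent.L28.ExtShriek.Killed
import Groth.Agent.L28.LocConst.PullInst
import Groth.Agent.L27.Spectral
import Groth.Agent.L27.H0Zariski
import Groth.Agent.L27.FLC.Torsor

/-! # `K(π,1)` under finite etale coverings -/

set_option autoImplicit false
universe u

open CategoryTheory CategoryTheory.Limits AlgebraicGeometry Opposite

set_option backward.isDefEq.respectTransparency.types false
set_option linter.style.haveILetI false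

noncomputable section

namespace Groth.L27.FLC

open LimCoh

/-- A finite etale cover has finitely many connected components if the base does. -/
theorem finite_components {X Y : Scheme.{u}} (f : X ⟶ Y) [IsFinite f] [AlgebraicGeometry.Etale f]
    [CompactSpace X] [QuasiSeparatedSpace X] (hconn : Finite (_root_.ConnectedComponents Y)) :
    Finite (_root_.ConnectedComponents X) := by
  haveI := H0Zariski.spectralSpace_of_qcqs X
  choose pt hpt using fun c : _root_.ConnectedComponents Y => ConnectedComponents.surjective_coe c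
  let F : Set X := ⋃ c, f ⁻¹' {pt c}
  have hF : F.Finite := Set.finite_iUnion fun c => f.finite_preimage_singleton (pt c)
  haveI := hF.to_subtype
  refine Finite.of_surjective (fun x : F => ConnectedComponents.mk x.1) fun c => ?_
  obtain ⟨x, rfl⟩ := ConnectedComponents.surjective_coe c
  by_contra hne
  have hne' : ∀ y ∈ F, x ∉ connectedComponent y := fun y hy hxy => hne
    ⟨⟨y, hy⟩, ConnectedComponents.coe_eq_coe.2 (connectedComponent_eq hxy)⟩
  let O : Set X := (⋃ y ∈ F, connectedComponent y)ᶜ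
  have hO : IsOpen O := (hF.isClosed_biUnion fun y _ => isClosed_connectedComponent).isOpen_compl
  have hsub : connectedComponent x ⊆ O := by
    intro z hz
    simp only [O, Set.mem_compl_iff, Set.mem_iUnion, exists_prop, not_exists, not_and]
    intro y hy hzy
    refine hne' y hy ?_
    rw [connectedComponent_eq hzy, ← connectedComponent_eq hz]
    exact mem_connectedComponent
  obtain ⟨W, hW, hxW, hWO⟩ := Spectral.exists_clopen_subset_of_component_subset hO hsub
  have hfW : IsClopen (f '' W) := ⟨f.isClosedMap _ hW.1, f.isOpenMap _ hW.2⟩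
  have hmem : pt (ConnectedComponents.mk (f x)) ∈ f '' W := by
    refine hfW.connectedComponent_subset ⟨x, hxW, rfl⟩ ?_
    rw [← ConnectedComponents.coe_eq_coe.1 (hpt (ConnectedComponents.mk (f x)))]
    exact mem_connectedComponent
  obtain ⟨w, hw, e⟩ := hmem
  exact hWO hw (Set.mem_biUnion (x := w) (Set.mem_iUnion.2 ⟨_, e⟩) mem_connectedComponent)

variable {X Y : Scheme.{u}}

theorem killed_push (f : X ⟶ Y) {n : ℕ} {F : EtCoh.Ab X} (h : EtCoh.KilledBy n F) :
    EtCoh.KilledBy n ((EtCoh.push f).obj F) := fun U s => h ((EtCoh.bc f).obj U) s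

theorem killed_pull (f : X ⟶ Y) {n : ℕ} {F : EtCoh.Ab Y} (h : EtCoh.KilledBy n F) :
    EtCoh.KilledBy n ((EtCoh.pull f).obj F) :=
  L28.ExtShriek.killed_of_nsmul_id
    (by rw [← CategoryTheory.Functor.map_id, ← Functor.map_nsmul, nsmul_id_eq_zero h, Functor.map_zero])

theorem map_eq_zero_of_isIso {A B : EtCoh.Ab X} (φ : A ⟶ B) [IsIso φ] {q : ℕ} (e : EtCoh.H X A q)
    (h : (EtCoh.HF X q).map φ e = 0) : e = 0 :=
  (ConcreteCategory.bijective_of_isIso ((EtCoh.HF X q).map φ)).1
    (h.trans (map_zero ((EtCoh.HF X q).map φ).hom).symm)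

/-- Killing classes descends along a finite etale surjective morphism. -/
theorem killing_of_cover (f : X ⟶ Y) [IsFinite f] [AlgebraicGeometry.Etale f] [Surjective f] (F : EtCoh.Ab Y)
    (q : ℕ) (ζ : EtCoh.H Y F q) [PreservesFiniteLimits (EtCoh.pull f)]
    (hg : ∃ (X' : Scheme.{u}) (g : X' ⟶ X), IsFinite g ∧ AlgebraicGeometry.Etale g ∧ Surjective g ∧
      ∀ [PreservesFiniteLimits (EtCoh.pull g)], EtCore.Hpull g _ q (EtCore.Hpull f F q ζ) = 0) :
    ∃ (Y' : Scheme.{u}) (g : Y' ⟶ Y), IsFinite g ∧ AlgebraicGeometry.Etale g ∧ Surjective g ∧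
      ∀ [PreservesFiniteLimits (EtCoh.pull g)], EtCore.Hpull g F q ζ = 0 := by
  obtain ⟨X', g, hgf, hge, hgs, hg⟩ := hg
  refine ⟨X', g ≫ f, inferInstance, inferInstance, inferInstance, fun {_} => ?_⟩
  haveI := EtSite.preservesFiniteLimits_pull g
  haveI := L28.AcyComp.isIso_gamma g f rfl F
  refine map_eq_zero_of_isIso (gamma g f rfl F) _ ?_
  rw [← Hpull_comp g f rfl q F ζ]
  exact hg

/-- Killing classes ascends along a finite etale morphism. -/
theorem killing_of_push (f : X ⟶ Y) [IsFinite f] [AlgebraicGeometry.Etale f] (F : EtCoh.Ab X)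
    (q : ℕ) (ζ : EtCoh.H X F q)
    (hg : ∀ ξ : EtCoh.H Y ((EtCoh.push f).obj F) q, ∃ (Y' : Scheme.{u}) (g : Y' ⟶ Y), IsFinite g ∧
      AlgebraicGeometry.Etale g ∧ Surjective g ∧
        ∀ [PreservesFiniteLimits (EtCoh.pull g)], EtCore.Hpull g _ q ξ = 0) :
    ∃ (X' : Scheme.{u}) (g : X' ⟶ X), IsFinite g ∧ AlgebraicGeometry.Etale g ∧ Surjective g ∧
      ∀ [PreservesFiniteLimits (EtCoh.pull g)], EtCore.Hpull g F q ζ = 0 := by
  haveI := EtSite.preservesFiniteLimits_pull f
  obtain ⟨ξ, hξ⟩ := (EtSite.bijective_HofPush f F (fun m hm => Groth.Agent.S0071.result f F m hm) q).2 ζ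
  obtain ⟨Y', g, hgf, hge, hgs, hg⟩ := hg ξ
  let g' := pullback.fst f g
  let f' := pullback.snd f g
  refine ⟨pullback f g, g', inferInstance, inferInstance, inferInstance, fun {_} => ?_⟩
  haveI := EtSite.preservesFiniteLimits_pull f'
  haveI := EtSite.preservesFiniteLimits_pull g
  haveI := EtSite.preservesFiniteLimits_pull (g' ≫ f)
  have hw : f' ≫ g = g' ≫ f := pullback.condition.symm
  haveI := L28.AcyComp.isIso_gamma f' g hw ((EtCoh.push f).obj F)
  have hk : EtCore.Hpull (g' ≫ f) ((EtCoh.push f).obj F) q ξ = 0 := by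
    refine map_eq_zero_of_isIso (gamma f' g hw _) _ ?_
    exact (Hpull_comp f' g hw q _ ξ).symm.trans ((congrArg (EtCore.Hpull f' _ q) hg).trans (map_zero _))
  rw [← hξ, EtSite.HofPush_def, Hpull_map]
  refine (congrArg ((EtCoh.HF _ q).map ((EtCoh.pull g').map ((EtCoh.pullPushAdj f).counit.app F)))
    ((Hpull_comp g' f rfl q _ ξ).trans ((congrArg ((EtCoh.HF _ q).map (gamma g' f rfl _)) hk).trans
      (map_zero ((EtCoh.HF _ q).map (gamma g' f rfl _)).hom)))).trans ?_
  exact map_zero _

end Groth.L27.FLC
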