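import Groth.Agent.L27.FLC.Galois
import Groth.Agent.L27.FLC.KPi1
import Groth.Agent.S0103
import Mathlib.GroupTheory.OrderOfElement
import Mathlib.Data.Nat.Prime.Basic

/-! # Affine schemes of characteristic `p` are `K(π,1)` for `p`-torsion coefficients -/

set_option autoImplicit false
universe u

open CategoryTheory CategoryTheory.Limits AlgebraicGeometry Opposite

set_option backward.isDefEq.respectTransparency.types false
set_option linter.style.haveILetI false

noncomputable section

namespace Groth.L27.FLC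

open ConstSect

/-- Higher cohomology of finite `p`-primary constant sheaves on affine schemes of characteristic `p`. -/
theorem subsingleton_H_const (A : Scheme.{u}) [IsAffine A] (p : ℕ) [hp : Fact p.Prime] [CharP Γ(A, ⊤) p]
    (q : ℕ) (hq : 2 ≤ q) (N : AddCommGrpCat.{u + 1}) [Finite N] (h : ℕ) (hN : ∀ m : N, p ^ h • m = 0) :
    Subsingleton (EtCoh.H A (K N A) q) := by
  induction hn : Nat.card N using Nat.strong_induction_on generalizing N with
  | _ n ih =>
  subst hn
  haveI : (EtCore.gsec A).Additive := { }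
  haveI : (constantSheaf A.smallEtaleTopology AddCommGrpCat.{u + 1}).Additive :=
    (EtCore.constAdj A).left_adjoint_additive
  haveI : PreservesFiniteLimits (constantSheaf A.smallEtaleTopology AddCommGrpCat.{u + 1}) :=
    comp_preservesFiniteLimits (Functor.const A.Etaleᵒᵖ) (presheafToSheaf A.smallEtaleTopology AddCommGrpCat.{u + 1})
  haveI := (EtCore.constAdj A).leftAdjoint_preservesColimits
  rcases subsingleton_or_nontrivial N with hs | hs
  · have hz : IsZero (K N A) := (constantSheaf A.smallEtaleTopology AddCommGrpCat.{u + 1}).map_isZero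
      (AddCommGrpCat.isZero_of_subsingleton N)
    refine subsingleton_of_forall_eq 0 fun x => ?_
    rw [← Abelian.Ext.comp_mk₀_id x, hz.eq_of_src (𝟙 (K N A)) 0, Abelian.Ext.mk₀_zero, Abelian.Ext.comp_zero]
  · obtain ⟨m, hm, hpm⟩ : ∃ m : N, m ≠ 0 ∧ p • m = 0 := by
      classical
      obtain ⟨m, hm⟩ := exists_ne (0 : N)
      have hex : ∃ i, p ^ i • m = 0 := ⟨h, hN m⟩
      have hi0 : Nat.find hex ≠ 0 := fun e => hm (by simpa [e] using Nat.find_spec hex)
      obtain ⟨i, hi⟩ := Nat.exists_eq_succ_of_ne_zero hi0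
      refine ⟨p ^ i • m, Nat.find_min hex (by omega), ?_⟩
      rw [← mul_nsmul', ← pow_succ']
      simpa [hi] using Nat.find_spec hex
    let L : ZMod p →+ N := ZMod.lift p ⟨zmultiplesHom _ m, (natCast_zsmul m p).trans hpm⟩
    let φ : AddCommGrpCat.of (ULift.{u + 1} (ZMod p)) ⟶ N :=
      AddCommGrpCat.ofHom (L.comp AddEquiv.ulift.toAddMonoidHom)
    have hL : ∀ k : ℕ, L k = k • m := fun k => by
      rw [← Int.cast_natCast]
      exact (ZMod.lift_coe p _ _).trans (natCast_zsmul m k)
    haveI : Mono φ := (AddCommGrpCat.mono_iff_injective φ).2 ((injective_iff_map_eq_zero φ.hom).2 fun z hz => by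
      obtain ⟨z⟩ := z
      obtain ⟨k, rfl⟩ := ZMod.natCast_zmod_surjective z
      refine ULift.ext _ _ ((ZMod.natCast_eq_zero_iff k p).2 ?_)
      rw [← addOrderOf_eq_prime hpm hm]
      exact addOrderOf_dvd_of_nsmul_eq_zero ((hL k).symm.trans hz))
    have hπ : Function.Surjective (cokernel.π φ) := (AddCommGrpCat.epi_iff_surjective _).1 inferInstance
    haveI : Finite (cokernel φ : AddCommGrpCat.{u + 1}) := Finite.of_surjective _ hπ
    have hcard : Nat.card (cokernel φ : AddCommGrpCat.{u + 1}) < Nat.card N := by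
      by_contra hle
      have hb := ((Nat.bijective_iff_surjective_and_card _).2
        ⟨hπ, le_antisymm (Nat.le_of_not_lt hle) (Nat.card_le_card_of_surjective _ hπ)⟩).1
      have h1 : φ ⟨(1 : ℕ)⟩ = 0 :=
        hb ((ConcreteCategory.congr_hom (cokernel.condition φ) _).trans (map_zero (cokernel.π φ).hom).symm)
      exact hm ((one_nsmul m).symm.trans ((hL 1).symm.trans h1))
    have hS : (ShortComplex.mk φ (cokernel.π φ) (cokernel.condition φ)).ShortExact :=
      { exact := ShortComplex.exact_cokernel φ }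
    have hS' := hS.map_of_exact (constantSheaf A.smallEtaleTopology AddCommGrpCat.{u + 1})
    haveI := Groth.Agent.S0103.result A p q hq
    haveI := ih _ hcard (cokernel φ) (fun x => by
      obtain ⟨x, rfl⟩ := hπ x
      rw [← map_nsmul, hN, map_zero]) rfl
    refine subsingleton_of_forall_eq 0 fun x => ?_
    obtain ⟨y, rfl⟩ := Abelian.Ext.covariant_sequence_exact₂ _ hS' x (Subsingleton.elim
      (α := EtCoh.H A (K (cokernel φ) A) q) _ _)
    rw [Subsingleton.elim (α := EtCoh.H A (EtCoh.const A (ZMod p)) q) y 0]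
    exact Abelian.Ext.zero_comp _ _ _ _ _

/-- Affine connected schemes of characteristic `p` are `K(π,1)` for `p`-torsion coefficients. -/
theorem kpi1_charP {X : Scheme.{u}} [IsAffine X] [ConnectedSpace X] (p : ℕ) [hp : Fact p.Prime]
    [CharP Γ(X, ⊤) p] (F : EtCoh.Ab X) (hF : EtCoh.IsFiniteLocallyConstant F) (h : ℕ)
    (htor : EtCoh.KilledBy (p ^ h) F) (q : ℕ) (hq : 0 < q) (ζ : EtCoh.H X F q) :
    ∃ (X' : Scheme.{u}) (g : X' ⟶ X), IsFinite g ∧ AlgebraicGeometry.Etale g ∧ Surjective g ∧
      ∀ [PreservesFiniteLimits (EtCoh.pull g)], EtCore.Hpull g F q ζ = 0 := by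
  obtain rfl | hq' : q = 1 ∨ 2 ≤ q := by omega
  · haveI : NeZero (p ^ h) := ⟨pow_ne_zero _ hp.out.pos.ne'⟩
    exact exists_cover_killing F hF (p ^ h) htor ζ
  · obtain ⟨A, hA, hs, -, -, N, hN, hNp, ⟨i⟩⟩ := exists_galois_trivializing F hF (p ^ h) htor
    haveI := hA
    haveI := hs
    haveI := hN
    let a : A.left ⟶ X := A.hom
    haveI : IsFinite a := A.prop.1
    haveI : IsAffine A.left := isAffine_of_isAffineHom a
    haveI : CharP Γ(A.left, ⊤) p := by
      have h0 : (p : Γ(A.left, ⊤)) = 0 := by
        exact (map_natCast a.appTop.hom p).symm.trans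
          ((congrArg a.appTop.hom (CharP.cast_eq_zero Γ(X, ⊤) p)).trans (map_zero a.appTop.hom))
      haveI : Nontrivial Γ(A.left, ⊤) := by
        by_contra hn
        rw [not_nontrivial_iff_subsingleton] at hn
        haveI : IsEmpty (Spec Γ(A.left, ⊤)) := inferInstanceAs (IsEmpty (PrimeSpectrum Γ(A.left, ⊤)))
        obtain ⟨x⟩ : Nonempty A.left := inferInstance
        exact IsEmpty.false (A.left.isoSpec.hom x)
      exact (CharP.charP_iff_prime_eq_zero hp.out).2 h0
    refine ⟨A.left, a, inferInstance, A.prop.2, inferInstanceAs (Surjective a), fun {_} => ?_⟩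
    haveI := subsingleton_H_const A.left p q hq' N h hNp
    refine map_eq_zero_of_isIso i.hom _ ?_
    exact Subsingleton.elim (α := EtCoh.H A.left (K N A.left) q) _ _

end Groth.L27.FLC
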