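import Groth.Agent.L27.FLC.Galois
import Mathlib.CategoryTheory.Abelian.DiagramLemmas.KernelCokernelComp
import Mathlib.GroupTheory.PGroup
import Mathlib.Data.ZMod.Basic

/-! # Filtrations with constant quotients of sheaves trivialized by a `p`-group cover -/

set_option autoImplicit false
universe u

open CategoryTheory CategoryTheory.Limits AlgebraicGeometry Opposite

set_option backward.isDefEq.respectTransparency.types false
set_option linter.style.haveILetI false
set_option linter.unusedSectionVars false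

noncomputable section

namespace Groth.L27.FLC

open Fppf

section Chain

variable {C : Type*} [Category C] [Abelian C]

theorem step_kernel {F X Y Q : C} (p : F ⟶ X) [Epi p] (g : X ⟶ Y) (hQ : Nonempty (kernel g ≅ Q)) :
    ∃ a : kernel p ⟶ kernel (p ≫ g), Mono a ∧ Nonempty (cokernel a ≅ Q) := by
  obtain ⟨e⟩ := hQ
  let a : kernel p ⟶ kernel (p ≫ g) :=
    kernel.map p (p ≫ g) (𝟙 _) g (by simp)
  let b : kernel (p ≫ g) ⟶ kernel g :=
    kernel.map (p ≫ g) g p (𝟙 _) (by simp)
  have hb : b ≫ kernel.ι g = kernel.ι (p ≫ g) ≫ p := kernel.lift_ι _ _ _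
  have ha : a ≫ kernel.ι (p ≫ g) = kernel.ι p := (kernel.lift_ι _ _ _).trans (Category.comp_id _)
  haveI : Mono a := mono_of_mono_fac ha
  have w : a ≫ b = 0 := by
    rw [← cancel_mono (kernel.ι g), Category.assoc, hb, zero_comp, ← Category.assoc, ha, kernel.condition]
  haveI : Epi b := by
    rw [epi_iff_surjective_up_to_refinements]
    intro A x
    obtain ⟨A', π, hπ, y, hy⟩ := surjective_up_to_refinements_of_epi p (x ≫ kernel.ι g)
    refine ⟨A', π, hπ, kernel.lift _ y ?_, ?_⟩
    · rw [← Category.assoc, ← hy, Category.assoc, Category.assoc, kernel.condition, comp_zero, comp_zero]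
    · rw [← cancel_mono (kernel.ι g), Category.assoc, Category.assoc, hb, kernel.lift_ι_assoc, hy]
  have hS : (ShortComplex.mk a b w).Exact := by
    rw [ShortComplex.exact_iff_exact_up_to_refinements]
    intro A x hx
    refine ⟨A, 𝟙 A, inferInstance, kernel.lift p (x ≫ kernel.ι (p ≫ g)) ?_, ?_⟩
    · rw [Category.assoc, ← hb, reassoc_of% hx, zero_comp]
    · rw [← cancel_mono (kernel.ι (p ≫ g)), Category.id_comp, Category.assoc, ha, kernel.lift_ι]
  exact ⟨a, inferInstance, ⟨(IsColimit.coconePointUniqueUpToIso (colimit.isColimit _) hS.gIsCokernel) ≪≫ e⟩⟩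

/-- Successive quotients give a filtration: from iterated quotients by `Q`. -/
inductive Fil (Q : C) : C → Prop
  | zero {X : C} : IsZero X → Fil Q X
  | succ {X : C} (s : Q ⟶ X) : Mono s → Fil Q (cokernel s) → Fil Q X

theorem Fil.exists_chain_above {Q F X : C} (h : Fil Q X) (p : F ⟶ X) [Epi p] :
    ∃ (n : ℕ) (G : ℕ → C) (φ : ∀ i, G i ⟶ G (i + 1)), Nonempty (G 0 ≅ kernel p) ∧ Nonempty (G n ≅ F) ∧
      ∀ i, i < n → Mono (φ i) ∧ Nonempty (cokernel (φ i) ≅ Q) := by
  induction h generalizing F with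
  | zero h0 =>
    obtain rfl := h0.eq_of_tgt p 0
    exact ⟨0, fun _ => kernel _, fun _ => 𝟙 _, ⟨Iso.refl _⟩, ⟨asIso (kernel.ι _)⟩, fun i hi => absurd hi (Nat.not_lt_zero i)⟩
  | @succ X s hs _ ih =>
    haveI := hs
    obtain ⟨n, G, φ, ⟨e₀⟩, he, hφ⟩ := ih (p ≫ cokernel.π s)
    have hk : Nonempty (kernel (cokernel.π s) ≅ Q) :=
      ⟨IsLimit.conePointUniqueUpToIso (kernelIsKernel _) (Abelian.monoIsKernelOfCokernel _ (cokernelIsCokernel s))⟩
    obtain ⟨a, ha, ⟨ea⟩⟩ := step_kernel p (cokernel.π s) hk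
    let G' : ℕ → C := fun i => match i with
      | 0 => kernel p
      | j + 1 => G j
    let φ' : ∀ i, G' i ⟶ G' (i + 1) := fun i => match i with
      | 0 => a ≫ e₀.inv
      | j + 1 => φ j
    refine ⟨n + 1, G', φ', ⟨Iso.refl _⟩, he, fun i hi => ?_⟩
    cases i with
    | zero =>
      exact ⟨inferInstanceAs (Mono (a ≫ e₀.inv)), ⟨(cokernelCompIsIso a e₀.inv) ≪≫ ea⟩⟩
    | succ j => exact hφ j (Nat.lt_of_succ_lt_succ hi)

theorem Fil.exists_chain {Q X : C} (h : Fil Q X) :
    ∃ (n : ℕ) (G : ℕ → C) (φ : ∀ i, G i ⟶ G (i + 1)), IsZero (G 0) ∧ Nonempty (G n ≅ X) ∧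
      ∀ i, i < n → Mono (φ i) ∧ Nonempty (cokernel (φ i) ≅ Q) := by
  obtain ⟨n, G, φ, ⟨e⟩, h1, h2⟩ := h.exists_chain_above (𝟙 X)
  exact ⟨n, G, φ, (isZero_kernel_of_mono (𝟙 X)).of_iso e, h1, h2⟩

end Chain

section Unit

variable {T T' : Scheme.{u}} (q : T' ⟶ T) (F : EtCoh.Ab T)

theorem eq_zero_of_unit [AlgebraicGeometry.Etale q] [Surjective q] {U : T.Etale} (x : F.obj.obj (op U))
    (h : ((EtCoh.pullPushAdj q).unit.app F).hom.app (op U) x = 0) : x = 0 := by
  refine ev_eq_zero F x ?_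
  have h1 := theta_eta q F U x
  rw [h] at h1
  replace h1 := (map_zero _).symm.trans h1
  refine eq_of_cover F (fun _ : PUnit.{u + 1} => (cT q).obj ((EtCoh.bc q).obj U)) (fun _ => pr q U)
    (fun _ => inferInstanceAs (AlgebraicGeometry.Etale (pullback.fst U.hom q)))
    (fun t => ⟨PUnit.unit, (pullback.fst U.hom q).surjective t⟩) _ _ fun _ => ?_
  rw [map_ev, map_zero]
  exact h1.symm

theorem eq_zero_of_map_pull [AlgebraicGeometry.Etale q] [Surjective q] {F' : EtCoh.Ab T} (s : F' ⟶ F)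
    (h : (EtCoh.pull q).map s = 0) : s = 0 := by
  refine ObjectProperty.hom_ext _ (NatTrans.ext (funext fun U => ConcreteCategory.hom_ext _ _ fun x => ?_))
  refine eq_zero_of_unit q F (U := U.unop) _ ?_
  have h1 : s ≫ (EtCoh.pullPushAdj q).unit.app F = 0 := by
    rw [← (EtCoh.pullPushAdj q).unit_naturality s, h, Functor.map_zero, comp_zero]
  exact ConcreteCategory.congr_hom (congrArg (fun k => k.hom.app U) h1) x

end Unit

variable {T T' : Scheme.{u}} [ConnectedSpace T'] (q : T' ⟶ T) [AlgebraicGeometry.Etale q] [Surjective q]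
  {ℓ : ℕ} [Fact ℓ.Prime] {P : Type u} [Group P] (hP : IsPGroup ℓ P) (σ : P → (T' ⟶ T'))
  (hσq : ∀ p, σ p ≫ q = q) (hσ1 : σ 1 = 𝟙 T') (hσmul : ∀ p p', σ (p * p') = σ p' ≫ σ p)
  (horb : ∀ (Ω : Type u) [Field Ω] [IsAlgClosed Ω] (a b : Spec (CommRingCat.of Ω) ⟶ T'),
    a ≫ q = b ≫ q → ∃ p, a ≫ σ p = b)

include hP hσq hσ1 hσmul horb in
/-- A nonzero sheaf trivialized by the cover has a nonzero invariant section. -/
theorem exists_section (F : EtCoh.Ab T) (N : AddCommGrpCat.{u + 1}) [Finite N] [Nontrivial N]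
    (hN : ∀ m : N, ℓ • m = 0) (i : (EtCoh.pull q).obj F ≅ ConstSect.K N T') :
    ∃ x : F.obj.obj (op (EtCoh.top T)), ℓ • x = 0 ∧
      ∀ (k : ℕ) (W : T.Etale), Nonempty W.left → F.obj.map (toTop W).op (k • x) = 0 → ℓ ∣ k := by
  haveI := isIso_theta q F
  let e : GT q F ≅ ConstSect.K N T' := (asIso (theta q F)).symm ≪≫ i
  let T₀ : Over T := (cT q).obj (EtCoh.top T')
  let Γ' := (G F).obj.obj (op T₀)
  let c : Γ' → N := fun x => Function.surjInv bijective_cst_top.2 (e.hom.hom.app (op (EtCoh.top T')) x)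
  have hc : ∀ x, ConstSect.cst N _ (c x) = e.hom.hom.app (op (EtCoh.top T')) x := fun x =>
    Function.surjInv_eq bijective_cst_top.2 _
  have he : ∀ (Q : T'.Etale) x, e.inv.hom.app (op Q) (e.hom.hom.app (op Q) x) = x := fun Q x =>
    ConcreteCategory.congr_hom (congrArg (fun k => k.hom.app (op Q)) e.hom_inv_id) x
  have hcbij : Function.Bijective c := by
    refine ⟨fun x y hxy => ?_, fun m => ?_⟩
    · exact (he _ x).symm.trans ((congrArg (e.inv.hom.app (op (EtCoh.top T')))
        (((hc x).symm.trans (congrArg (ConstSect.cst N _) hxy)).trans (hc y))).trans (he _ y))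
    · refine ⟨e.inv.hom.app (op (EtCoh.top T')) (ConstSect.cst N _ m), (bijective_cst_top (M := N) (X := T')).1 ?_⟩
      rw [hc]
      exact ConcreteCategory.congr_hom (congrArg (fun k => k.hom.app (op (EtCoh.top T'))) e.inv_hom_id) _
  have hsmul : ∀ (k : ℕ) (x : Γ'), c (k • x) = k • c x := fun k x => (bijective_cst_top (M := N) (X := T')).1
    ((hc (k • x)).trans ((map_nsmul (e.hom.hom.app (op (EtCoh.top T'))).hom k x).trans
      ((congrArg (k • ·) (hc x).symm).trans (map_nsmul (ConstSect.cst N (EtCoh.top T')) k (c x)).symm)))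
  have hzero : c 0 = 0 := by simpa using hsmul 0 0
  let cE : Γ' ≃ N := Equiv.ofBijective c hcbij
  haveI : Finite Γ' := Finite.of_equiv _ cE.symm
  let g : P → (T₀ ⟶ T₀) := fun p => Over.homMk (σ p) (by
    show σ p ≫ (𝟙 T' ≫ q) = 𝟙 T' ≫ q
    rw [Category.id_comp, hσq])
  letI : MulAction P Γ' :=
    { smul := fun p x => (G F).obj.map (g p⁻¹).op x
      one_smul := fun x => by
        show (G F).obj.map (g 1⁻¹).op x = x
        rw [show g 1⁻¹ = 𝟙 T₀ from Over.OverMorphism.ext (by show σ 1⁻¹ = 𝟙 T'; rw [inv_one, hσ1])]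
        simp
      mul_smul := fun p p' x => by
        show (G F).obj.map (g (p * p')⁻¹).op x = (G F).obj.map (g p⁻¹).op ((G F).obj.map (g p'⁻¹).op x)
        rw [map_map', show g (p * p')⁻¹ = g p⁻¹ ≫ g p'⁻¹ from Over.OverMorphism.ext (by
          show σ (p * p')⁻¹ = σ p⁻¹ ≫ σ p'⁻¹
          rw [mul_inv_rev, hσmul])] }
  have hdvd : ℓ ∣ Nat.card Γ' := by
    rw [Nat.card_congr cE]
    obtain ⟨m, hm⟩ := exists_ne (0 : N)
    rw [← addOrderOf_eq_prime (hN m) hm]
    exact addOrderOf_dvd_natCard m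
  have h0 : (0 : Γ') ∈ MulAction.fixedPoints P Γ' := fun p => map_zero ((G F).obj.map (g p⁻¹).op).hom
  obtain ⟨x, hx, hx0⟩ := hP.exists_fixed_point_of_prime_dvd_card_of_fixed_point Γ' hdvd h0
  have hfix : ∀ p, (G F).obj.map (g p).op x = x := fun p => by
    have h := hx p⁻¹
    change (G F).obj.map (g p⁻¹⁻¹).op x = x at h
    rwa [inv_inv] at h
  let top₀ : Over T := (EtFppf.a T).obj (EtCoh.top T)
  let j : T₀ ⟶ top₀ := Over.homMk q ((Category.comp_id _).trans (Category.id_comp _).symm)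
  obtain ⟨y, hy, -⟩ := existsUnique_glue F (T := top₀) (fun _ : PUnit.{u + 1} => T₀) (fun _ => j)
    (fun _ => inferInstanceAs (AlgebraicGeometry.Etale q)) (fun t => ⟨PUnit.unit, q.surjective t⟩)
    (fun _ => x) (fun _ _ Z a b hab => by
      rw [← sub_eq_zero]
      refine eq_zero_of_zeroNear F _ fun z => ?_
      obtain ⟨Ω, _, _, v, hv⟩ := FEtGal.exists_geometric z
      let V : Over T := Over.mk (v ≫ Z.hom)
      let v' : V ⟶ Z := Over.homMk v rfl
      obtain ⟨p, hp⟩ := horb Ω (v ≫ a.left) (v ≫ b.left) (by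
        rw [Category.assoc, Category.assoc]
        exact congrArg (v ≫ ·) (congrArg (fun k : Z ⟶ top₀ => k.left) hab))
      have hv' : (v' ≫ a) ≫ g p = v' ≫ b := Over.OverMorphism.ext hp
      rw [← hv]
      refine ZeroNear.of_map F v' _ (default : Spec (CommRingCat.of Ω)) (zeroNear_of_eq_zero F _ ?_ _)
      rw [map_sub, sub_eq_zero, map_map', map_map', ← hv', ← map_map' F (v' ≫ a) (g p), hfix])
  obtain ⟨x₀, rfl⟩ := ev_surjective F (EtCoh.top T) y
  have hx₀ : (G F).obj.map j.op (ev F (EtCoh.top T) x₀) = x := hy PUnit.unit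
  refine ⟨x₀, ?_, fun k W hW hk => ?_⟩
  · refine ev_eq_zero F _ ?_
    refine eq_of_cover F (T := top₀) (fun _ : PUnit.{u + 1} => T₀) (fun _ => j)
      (fun _ => inferInstanceAs (AlgebraicGeometry.Etale q)) (fun t => ⟨PUnit.unit, q.surjective t⟩) _ _ fun _ => ?_
    rw [map_nsmul, map_nsmul, hx₀, map_zero]
    exact hcbij.1 ((hsmul ℓ x).trans ((hN (c x)).trans hzero.symm))
  · let Q := (EtCoh.bc q).obj W
    obtain ⟨w⟩ := hW
    obtain ⟨t', ht'⟩ := q.surjective (W.hom w)
    obtain ⟨z, -, -⟩ := Scheme.Pullback.exists_preimage_pullback (f := W.hom) (g := q) w t' ht'.symm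
    have h1 : (GT q F).obj.map (toTop Q).op (k • x) = 0 := by
      have h2 := congrArg ((G F).obj.map (pr q W).op) ((ev_nat F (toTop W) (k • x₀)).symm.trans
        ((congrArg (ev F W) hk).trans (map_zero _)))
      rw [map_map', map_nsmul, map_nsmul, map_zero] at h2
      show (G F).obj.map ((cT q).map (toTop Q)).op (k • x) = 0
      rw [map_nsmul, ← hx₀, map_map', show (cT q).map (toTop Q) ≫ j = pr q W ≫ (EtFppf.a T).map (toTop W) from
        Over.OverMorphism.ext ?_]
      · exact h2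
      · have hl : ∀ {Z : Over T} (m : Z ⟶ top₀), m.left = Z.hom := fun {Z} m =>
          (Category.comp_id _).symm.trans (Over.w m)
        exact (hl ((cT q).map (toTop Q) ≫ j)).trans (hl (pr q W ≫ (EtFppf.a T).map (toTop W))).symm
    have h3 : ConstSect.cst N Q (k • c x) = 0 := by
      rw [← ConstSect.map_cst N (toTop Q), map_nsmul, hc, ← map_nsmul]
      refine (NatTrans.naturality_apply e.hom.hom (toTop Q).op (k • x)).symm.trans ?_
      exact (congrArg (e.hom.hom.app (op Q)) h1).trans (map_zero _)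
    haveI : Nonempty Q.left := ⟨z⟩
    have h4 : k • c x = 0 := ConstSect.cst_injective N Q (h3.trans (map_zero _).symm)
    have hcx : c x ≠ 0 := fun h => hx0 (hcbij.1 (hzero.trans h.symm))
    rw [← addOrderOf_eq_prime (hN (c x)) hcx]
    exact addOrderOf_dvd_of_nsmul_eq_zero h4

include hP hσq hσ1 hσmul horb in
/-- Sheaves trivialized by a `p`-group cover are successive extensions of constant sheaves. -/
theorem fil_const (F : EtCoh.Ab T) (N : AddCommGrpCat.{u + 1}) [Finite N]
    (hN : ∀ m : N, ℓ • m = 0) (i : (EtCoh.pull q).obj F ≅ ConstSect.K N T') :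
    Fil (EtCoh.const T (ZMod ℓ)) F := by
  induction hn : Nat.card N using Nat.strong_induction_on generalizing F N with
  | _ n ih =>
  subst hn
  rcases subsingleton_or_nontrivial N with hs | hs
  · refine Fil.zero ((IsZero.iff_id_eq_zero F).2 (eq_zero_of_map_pull q F (𝟙 F) ?_))
    exact (((constantSheaf T'.smallEtaleTopology AddCommGrpCat.{u + 1}).map_isZero
      (AddCommGrpCat.isZero_of_subsingleton N)).of_iso i).eq_of_src _ _
  · obtain ⟨x, hx, hxinj⟩ := exists_section q hP σ hσq hσ1 hσmul horb F N hN i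
    let M : AddCommGrpCat.{u + 1} := AddCommGrpCat.of (ULift.{u + 1} (ZMod ℓ))
    let L : ZMod ℓ →+ F.obj.obj (op (EtCoh.top T)) :=
      ZMod.lift ℓ ⟨zmultiplesHom _ x, (natCast_zsmul x ℓ).trans hx⟩
    let φ : M →+ F.obj.obj (op (EtCoh.top T)) := L.comp AddEquiv.ulift.toAddMonoidHom
    obtain ⟨s, hs'⟩ := exists_constMap (M := M) (H := F) φ
    have hinj : ∀ (W : T.Etale), Nonempty W.left → ∀ m : M, F.obj.map (toTop W).op (φ m) = 0 → m = 0 := by
      intro W hW m hm
      obtain ⟨k⟩ := m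
      obtain ⟨k, rfl⟩ := ZMod.natCast_zmod_surjective k
      have h1 : φ ⟨(k : ZMod ℓ)⟩ = k • x := by
        refine (?_ : L (k : ZMod ℓ) = k • x)
        rw [← Int.cast_natCast]
        exact (ZMod.lift_coe ℓ _ _).trans (natCast_zsmul x k)
      rw [h1] at hm
      exact ULift.ext _ _ ((ZMod.natCast_eq_zero_iff k ℓ).2 (hxinj k W hW hm))
    haveI : Mono s := by
      refine Preadditive.mono_of_cancel_zero _ fun {G'} g hg => ?_
      refine ObjectProperty.hom_ext _ (NatTrans.ext (funext fun U => ConcreteCategory.hom_ext _ _ fun t => ?_))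
      refine EtSite.ext_of_locally _ (U := U.unop) fun z => ?_
      obtain ⟨W, d, w, m, hw, hd⟩ := ConstSect.exists_locally_cst M (g.hom.app U t) z
      refine ⟨W, d, w, hw, ?_⟩
      have h0 : s.hom.app (op W) ((ConstSect.K M T).obj.map d.op (g.hom.app U t)) = 0 := by
        refine (NatTrans.naturality_apply s.hom d.op _).trans ?_
        exact (congrArg (F.obj.map d.op) (ConcreteCategory.congr_hom (congrArg (fun k => k.hom.app U) hg) t)).trans
          (map_zero _)
      rw [hd, hs'] at h0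
      refine (hd.trans ?_).trans (map_zero _).symm
      rw [hinj W ⟨w⟩ m h0, map_zero]
    have hsne : s ≠ 0 := by
      intro h
      haveI : ConnectedSpace T := q.surjective.connectedSpace q.continuous
      have h1 := hs' (EtCoh.top T) ⟨(1 : ZMod ℓ)⟩
      rw [h] at h1
      have h2 : (⟨(1 : ZMod ℓ)⟩ : M) = 0 := hinj _ (inferInstanceAs (Nonempty T)) _ h1.symm
      exact one_ne_zero (congrArg ULift.down h2)
    let ψ : ConstSect.K M T' ⟶ ConstSect.K N T' :=
      (EtCore.pullConstIso q).inv.app M ≫ (EtCoh.pull q).map s ≫ i.hom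
    obtain ⟨φ', hφ'⟩ := exists_map_eq ψ
    let N' := cokernel φ'
    haveI := (constantSheafAdj T'.smallEtaleTopology AddCommGrpCat.{u + 1}
      (EtCore.topIsTerminal T')).leftAdjoint_preservesColimits
    haveI : (EtCore.gsec T').Additive := { }
    haveI : (constantSheaf T'.smallEtaleTopology AddCommGrpCat.{u + 1}).Additive :=
      (EtCore.constAdj T').left_adjoint_additive
    let i' : (EtCoh.pull q).obj (cokernel s) ≅ ConstSect.K N' T' :=
      PreservesCokernel.iso (EtCoh.pull q) s ≪≫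
        cokernel.mapIso ((EtCoh.pull q).map s) ψ ((EtCore.pullConstIso q).app M) i (by
          show _ = (EtCore.pullConstIso q).hom.app M ≫ (EtCore.pullConstIso q).inv.app M ≫ _ ≫ _
          rw [Iso.hom_inv_id_app_assoc]) ≪≫
        cokernelIsoOfEq hφ'.symm ≪≫
        (PreservesCokernel.iso (constantSheaf T'.smallEtaleTopology AddCommGrpCat.{u + 1}) φ').symm
    have hπ : Function.Surjective (cokernel.π φ') :=
      (AddCommGrpCat.epi_iff_surjective _).1 inferInstance
    haveI : Finite N' := Finite.of_surjective _ hπ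
    have hN' : ∀ m : N', ℓ • m = 0 := fun m => by
      obtain ⟨m, rfl⟩ := hπ m
      rw [← map_nsmul, hN, map_zero]
    refine Fil.succ s inferInstance (ih _ ?_ _ N' hN' i' rfl)
    by_contra hle
    have hb := ((Nat.bijective_iff_surjective_and_card _).2
      ⟨hπ, le_antisymm (Nat.le_of_not_lt hle) (Nat.card_le_card_of_surjective _ hπ)⟩).1
    refine hsne (eq_zero_of_map_pull q F s ?_)
    have hφ0 : φ' = 0 := ConcreteCategory.hom_ext _ _ fun m => hb
      ((ConcreteCategory.congr_hom (cokernel.condition φ') m).trans (map_zero _).symm)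
    have hψ : ψ = 0 := by rw [← hφ', hφ0, Functor.map_zero]
    rw [← cancel_epi ((EtCore.pullConstIso q).inv.app M), ← cancel_mono i.hom]
    simpa [ψ] using hψ

end Groth.L27.FLC
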