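import Groth.Agent.L27.FLC.Rep
import Groth.Agent.L27.FLC.Const
import Groth.Agent.L27.Fppf.Main
import Groth.Agent.L27.FEtGal.Split
import Mathlib.GroupTheory.Sylow

/-! # Galois covers trivializing a finite locally constant sheaf, and their quotients -/

set_option autoImplicit false
universe u

open CategoryTheory CategoryTheory.Limits AlgebraicGeometry Opposite

set_option backward.isDefEq.respectTransparency.types false
set_option linter.style.haveILetI false
set_option linter.unusedSectionVars false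

noncomputable section

namespace Groth.L27.FLC

open Fppf FEtGal

variable {S : Scheme.{u}} [ConnectedSpace S]

/-- An automorphism group acts simply transitively on every geometric fibre. -/
def IsTorsorCover (A : FEt.Cat S) : Prop :=
  ∀ (Ω : Type u) [Field Ω] [IsAlgClosed Ω] (ξ : Spec (CommRingCat.of Ω) ⟶ S),
    ∃ a : FEt.fiberObj ξ A, Function.Bijective fun σ : Aut A => (FEt.fiber ξ).map σ.hom a

theorem eq_of_comp_eq (A Y : FEt.Cat S)
    [PreGaloisCategory.IsConnected A] {f g : A ⟶ Y} {Z : Scheme.{u}} [Nonempty Z] (j : Z ⟶ A.left)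
    (h : j ≫ f.left = j ≫ g.left) : f = g := by
  obtain ⟨z⟩ := ‹Nonempty Z›
  obtain ⟨Ω, _, _, v, -⟩ := exists_geometric z
  let ξ : Spec (CommRingCat.of Ω) ⟶ S := v ≫ j ≫ hm A
  haveI := galoisCategory ξ
  haveI : PreGaloisCategory.FiberFunctor (fibF ξ) := fiberFunctor ξ
  refine PreGaloisCategory.evaluation_injective_of_isConnected (fibF ξ) A Y
    (⟨v ≫ j, Category.assoc _ _ _⟩ : FEt.fiberObj ξ A) (Subtype.ext ?_)
  show (v ≫ j) ≫ f.left = (v ≫ j) ≫ g.left
  rw [Category.assoc, Category.assoc, h]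

variable (F : EtCoh.Ab S)

theorem nsmul_eq_zero {n : ℕ} (hn : EtCoh.KilledBy n F) {T : Over S} (x : (G F).obj.obj (op T)) :
    n • x = 0 := by
  refine eq_zero_of_locally F _ fun t => ?_
  obtain ⟨T', g, t', U, c, s, hg, ht, hs⟩ := exists_e F x t
  refine ⟨T', g, t', hg, ht, ?_⟩
  rw [map_nsmul, hs, ← map_nsmul, hn U s, map_zero]

/-- A finite locally constant sheaf on a connected scheme becomes constant on a Galois cover. -/
theorem exists_galois_trivializing (hF : EtCoh.IsFiniteLocallyConstant F) (n : ℕ) (hn : EtCoh.KilledBy n F) :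
    ∃ A : FEt.Cat S, ConnectedSpace A.left ∧ Surjective (hm A) ∧ Finite (Aut A) ∧ IsTorsorCover A ∧
      ∃ N : AddCommGrpCat.{u + 1}, Finite N ∧ (∀ m : N, n • m = 0) ∧
        Nonempty ((EtCoh.pull (hm A)).obj F ≅ ConstSect.K N A.left) := by
  obtain ⟨R, η, hη, hfin, het⟩ := exists_rep F hF
  let Y : FEt.Cat S := MorphismProperty.Over.mk ⊤ R.hom ⟨hfin, het⟩
  obtain ⟨Ω₀, _, _, ξ, -⟩ := exists_geometric (Classical.arbitrary S)
  haveI := galoisCategory ξ
  haveI : PreGaloisCategory.FiberFunctor (fibF ξ) := fiberFunctor ξ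
  obtain ⟨A, a, hA, hb⟩ := PreGaloisCategory.exists_galois_representative (fibF ξ) Y
  let a0 : FEt.fiberObj ξ A := a
  haveI hc : ConnectedSpace A.left := connectedSpace_of_isConnected ξ A a0
  haveI : IsFinite (hm A) := A.prop.1
  haveI : AlgebraicGeometry.Etale (hm A) := A.prop.2
  have hsurj : Surjective (hm A) := ⟨fun x =>
    (IsClopen.eq_univ ⟨(hm A).isClosedMap.isClosed_range, (hm A).isOpenMap.isOpen_range⟩
      (Set.range_nonempty _)).ge (Set.mem_univ x)⟩
  have htor : IsTorsorCover A := by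
    intro Ω _ _ ξ'
    haveI : PreGaloisCategory.FiberFunctor (fibF ξ') := fiberFunctor ξ'
    obtain ⟨a'⟩ := PreGaloisCategory.nonempty_fiber_of_isConnected (fibF ξ') A
    exact ⟨a', PreGaloisCategory.evaluation_aut_bijective_of_isGalois (fibF ξ') A a'⟩
  haveI : Finite (A ⟶ Y) := Finite.of_injective _ hb.1
  refine ⟨A, hc, hsurj, inferInstance, htor, ?_⟩
  let H : EtCoh.Ab A.left := GT (hm A) F
  let N : AddCommGrpCat.{u + 1} := H.obj.obj (op (EtCoh.top A.left))
  let T₀ : Over S := (cT (hm A)).obj (EtCoh.top A.left)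
  have hT₀ : T₀.hom = hm A := Category.id_comp _
  -- global sections are morphisms of covers
  let toY : (T₀ ⟶ R) → (A ⟶ Y) := fun k =>
    MorphismProperty.Over.homMk k.left ((Over.w k).trans hT₀)
  have htoY : ∀ k k', toY k = toY k' → k = k' := fun k k' e =>
    Over.OverMorphism.ext (congrArg (fun m : A ⟶ Y => m.left) e)
  let sec : N → (T₀ ⟶ R) := fun m => (hη T₀ m).exists.choose
  have hsec : ∀ m, (fam F).res (sec m) η = m := fun m => (hη T₀ m).exists.choose_spec
  haveI : Finite N := Finite.of_injective (fun m => toY (sec m)) fun m m' e => by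
    rw [← hsec m, ← hsec m', htoY _ _ e]
  refine ⟨N, inferInstance, fun m => nsmul_eq_zero F hn (T := T₀) m, ?_⟩
  obtain ⟨f, hf⟩ := exists_constMap (M := N) (H := H) (AddMonoidHom.id _)
  haveI : IsIso f := by
    refine isIso_of_sections f (fun Q hQ m hm' => ?_) fun Q x q => ?_
    · rw [hf] at hm'
      have h1 : (cT (hm A)).map (toTop Q) ≫ sec m = (cT (hm A)).map (toTop Q) ≫ sec 0 := by
        refine hη.ext ?_
        rw [(fam F).res_comp, (fam F).res_comp, hsec, hsec]
        exact hm'.trans (map_zero (H.obj.map (toTop Q).op).hom).symm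
      have h2 : toY (sec m) = toY (sec 0) := by
        haveI := hQ
        exact eq_of_comp_eq A Y (toTop Q).left (congrArg (fun k : (cT (hm A)).obj Q ⟶ R => k.left) h1)
      rw [← hsec m, htoY _ _ h2, hsec]
    · let T : Over S := (cT (hm A)).obj Q
      obtain ⟨h, hh, -⟩ := hη T x
      let m' := Nat.card (A ⟶ Y)
      let σ : Fin m' ≃ (A ⟶ Y) := (Finite.equivFin _).symm
      let W := (FEt.restrict (hm A)).obj Y
      have hlw : ∀ f : A ⟶ Y, f.left ≫ R.hom = 𝟙 A.left ≫ hm A := fun f =>
        (MorphismProperty.Over.w f).trans (Category.id_comp _).symm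
      obtain ⟨e, he⟩ := split_of_sections W a0.1 (fun i => pullback.lift (σ i).left (𝟙 A.left) (hlw (σ i)))
        (fun i => pullback.lift_snd _ _ _) (fun i j hij => by
          refine σ.injective (hb.1 (Subtype.ext ?_))
          exact (((Category.assoc _ _ _).trans (congrArg (a0.1 ≫ ·) (pullback.lift_fst _ _ _))).symm.trans
            (congrArg (· ≫ pullback.fst R.hom (hm A)) hij)).trans
              ((Category.assoc _ _ _).trans (congrArg (a0.1 ≫ ·) (pullback.lift_fst _ _ _)))) (fun t => by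
          obtain ⟨f, hf⟩ := hb.2 (⟨t.1 ≫ pullback.fst R.hom (hm A), by
            refine (Category.assoc _ _ _).trans ((congrArg (t.1 ≫ ·) pullback.condition).trans ?_)
            exact (Category.assoc _ _ _).symm.trans ((congrArg (· ≫ hm A) t.2).trans a0.2)⟩ :
              FEt.fiberObj ξ Y)
          obtain ⟨i, rfl⟩ := σ.surjective f
          exact ⟨i, pullback.hom_ext
            (((Category.assoc _ _ _).trans (congrArg (a0.1 ≫ ·) (pullback.lift_fst _ _ _))).trans
              (congrArg Subtype.val hf))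
            ((((Category.assoc _ _ _).trans (congrArg (a0.1 ≫ ·) (pullback.lift_snd _ _ _))).trans
              (Category.comp_id _)).trans t.2.symm)⟩)
      let h' : Q.left ⟶ W.left := pullback.lift h.left Q.hom (Over.w h)
      obtain ⟨i, z, hz⟩ : ∃ (i : Fin m') (z : A.left), Sigma.ι (fun _ : Fin m' => A.left) i z = (h' ≫ e.hom) q :=
        (sigmaOpenCover fun _ : Fin m' => A.left).exists_eq ((h' ≫ e.hom) q)
      let O : Q.left.Opens := (h' ≫ e.hom) ⁻¹ᵁ (Sigma.ι (fun _ : Fin m' => A.left) i).opensRange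
      haveI : AlgebraicGeometry.Etale Q.hom := Q.prop
      let Q' : A.left.Etale := Scheme.Etale.mk (O.ι ≫ Q.hom)
      let d : Q' ⟶ Q := MorphismProperty.Over.homMk O.ι rfl
      have hO : Set.range (O.ι ≫ h' ≫ e.hom) ⊆ Set.range (Sigma.ι (fun _ : Fin m' => A.left) i) := by
        rintro _ ⟨v, rfl⟩
        exact v.2
      have hl := IsOpenImmersion.lift_fac (Sigma.ι (fun _ : Fin m' => A.left) i) (O.ι ≫ h' ≫ e.hom) hO
      set l := IsOpenImmersion.lift (Sigma.ι (fun _ : Fin m' => A.left) i) (O.ι ≫ h' ≫ e.hom) hO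
      have hlQ : l = O.ι ≫ Q.hom := by
        have h3 := congrArg (· ≫ e.inv ≫ W.hom) hl
        simp only [Category.assoc, Iso.hom_inv_id_assoc] at h3
        rw [he i, Category.comp_id] at h3
        exact h3.trans (congrArg (O.ι ≫ ·) (pullback.lift_snd _ _ _))
      let σi : T₀ ⟶ R := Over.homMk
        (Sigma.ι (fun _ : Fin m' => A.left) i ≫ e.inv ≫ pullback.fst R.hom (hm A)) (by
          show (Sigma.ι (fun _ : Fin m' => A.left) i ≫ e.inv ≫ pullback.fst R.hom (hm A)) ≫ R.hom = T₀.hom
          rw [hT₀, Category.assoc, Category.assoc]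
          refine (congrArg (fun k => Sigma.ι (fun _ : Fin m' => A.left) i ≫ e.inv ≫ k) pullback.condition).trans ?_
          exact ((Category.assoc _ _ _).trans (congrArg (_ ≫ ·) (Category.assoc _ _ _))).symm.trans
            ((congrArg (· ≫ hm A) (he i)).trans (Category.id_comp _)))
      refine ⟨Q', d, ⟨q, ⟨z, hz⟩⟩, (fam F).res σi η, rfl, ?_⟩
      rw [hf, AddMonoidHom.id_apply]
      show (fam F).res ((cT (hm A)).map d) x = (fam F).res ((cT (hm A)).map (toTop Q')) ((fam F).res σi η)
      rw [← hh, ← (fam F).res_comp, ← (fam F).res_comp]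
      refine congrArg (fun k => (fam F).res k η) (Over.OverMorphism.ext ?_)
      show O.ι ≫ h.left = (toTop Q').left ≫ σi.left
      have h4 : (toTop Q').left = O.ι ≫ Q.hom :=
        (Category.comp_id _).symm.trans (MorphismProperty.Over.w (toTop Q'))
      rw [h4, ← hlQ]
      refine Eq.trans ?_ ((reassoc_of% hl) (e.inv ≫ pullback.fst R.hom (hm A))).symm
      rw [Iso.hom_inv_id_assoc]
      exact congrArg (O.ι ≫ ·) (pullback.lift_fst _ _ _).symm
  haveI := isIso_theta (hm A) F
  exact ⟨asIso (theta (hm A) F) ≪≫ (asIso f).symm⟩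

/-- The quotient of a Galois cover by a group of automorphisms, fibre by fibre. -/
theorem exists_quotient (A : FEt.Cat S) [Finite (Aut A)] (P : Subgroup (Aut A)) :
    ∃ (T : FEt.Cat S) (q : A ⟶ T), (∀ σ ∈ P, σ.hom ≫ q = q) ∧
      ∀ (Ω : Type u) [Field Ω] [IsAlgClosed Ω] (ξ : Spec (CommRingCat.of Ω) ⟶ S),
        Function.Surjective ((FEt.fiber ξ).map q) ∧
        ∀ a b : FEt.fiberObj ξ A, (FEt.fiber ξ).map q a = (FEt.fiber ξ).map q b →
          ∃ σ ∈ P, (FEt.fiber ξ).map σ.hom a = b := by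
  haveI := preGaloisCategory S
  let D : SingleObj P ⥤ FEt.Cat S := SingleObj.functor ((Aut.toEnd A).comp P.subtype)
  let c := colimit.cocone D
  refine ⟨c.pt, c.ι.app (SingleObj.star P), fun σ hσ => c.w (j := SingleObj.star P) (j' := SingleObj.star P) ⟨σ, hσ⟩, ?_⟩
  intro Ω _ _ ξ
  haveI := preservesFiniteColimits_fiber ξ
  haveI : PreservesColimitsOfShape (SingleObj P) (FEt.fiber ξ) := by
    obtain ⟨G', hg, hf, ⟨e⟩⟩ := Finite.exists_type_univ_nonempty_mulEquiv.{u, 0} P
    exact preservesColimitsOfShape_of_equiv e.toSingleObjEquiv.symm (FEt.fiber ξ)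
  have hc : IsColimit ((FEt.fiber ξ).mapCocone c) := isColimitOfPreserves _ (colimit.isColimit D)
  refine ⟨fun t => ?_, fun a b hab => ?_⟩
  · let b₁ : (FEt.fiber ξ).obj c.pt ⟶ ULift.{u, 0} Prop := TypeCat.ofHom fun _ => ⟨True⟩
    let b₂ : (FEt.fiber ξ).obj c.pt ⟶ ULift.{u, 0} Prop := TypeCat.ofHom fun t =>
      ⟨t ∈ Set.range ((FEt.fiber ξ).map (c.ι.app (SingleObj.star P)))⟩
    have hb : b₁ = b₂ := hc.hom_ext fun j => by
      refine ConcreteCategory.hom_ext _ _ fun x => ?_
      refine congrArg ULift.up (eq_true ?_).symm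
      exact ⟨x, rfl⟩
    exact of_eq_true (congrArg ULift.down (ConcreteCategory.congr_hom hb t)).symm
  · let R : Setoid (FEt.fiberObj ξ A) :=
      { r := fun x y => ∃ σ ∈ P, (FEt.fiber ξ).map σ.hom x = y
        iseqv := ⟨fun x => ⟨1, P.one_mem, ConcreteCategory.congr_hom ((FEt.fiber ξ).map_id A) x⟩,
          fun {x y} ⟨σ, hσ, h⟩ => ⟨σ⁻¹, P.inv_mem hσ, by
            rw [← h]
            show (FEt.fiber ξ).map σ.inv ((FEt.fiber ξ).map σ.hom x) = x
            rw [← Functor.map_comp_apply, σ.hom_inv_id]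
            exact ConcreteCategory.congr_hom ((FEt.fiber ξ).map_id A) x⟩,
          fun {x y z} ⟨σ, hσ, h⟩ ⟨τ, hτ, h'⟩ => ⟨τ * σ, P.mul_mem hτ hσ, by
            show (FEt.fiber ξ).map (σ.hom ≫ τ.hom) x = z
            rw [Functor.map_comp_apply, h, h']⟩⟩ }
    let co : Cocone (D ⋙ FEt.fiber ξ) :=
      { pt := Quotient R
        ι :=
          { app := fun _ => TypeCat.ofHom (Quotient.mk R)
            naturality := fun j k g => by
              refine ConcreteCategory.hom_ext _ _ fun x => ?_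
              exact (Quotient.sound (⟨g.1, g.2, rfl⟩ : R.r x ((FEt.fiber ξ).map g.1.hom x))).symm } }
    have hfac := fun x => ConcreteCategory.congr_hom (hc.fac co (SingleObj.star P)) x
    exact Quotient.exact (((hfac a).symm.trans (congrArg (hc.desc co) hab)).trans (hfac b))

end Groth.L27.FLC
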