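import Groth.Agent.L27.Fppf.Descent
import Groth.Agent.L27.EtSite.Common
import Groth.Agent.L25.HomScheme.Sigma
import Mathlib.CategoryTheory.Sites.IsSheafFor
import Mathlib.CategoryTheory.Sites.Whiskering

/-! # The big etale sheaf as a functor of points -/

set_option autoImplicit false
universe u

open CategoryTheory CategoryTheory.Limits AlgebraicGeometry Opposite

set_option backward.isDefEq.respectTransparency.types false
set_option linter.style.haveILetI false

noncomputable section

namespace Groth.L27.FLC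

open Fppf Groth.L25.HomScheme

variable {S : Scheme.{u}} (F : EtCoh.Ab S)

/-- The big etale sheaf of `F` as a functor of points. -/
def fam : Fam.{u, u + 1} S where
  obj T := (G F).obj.obj (op T)
  res g := (G F).obj.map g.op
  res_id x := by simp
  res_comp f g x := Functor.map_comp_apply (G F).obj g.op f.op x

theorem map_map' {T T' T'' : Over S} (i : T'' ⟶ T') (j : T' ⟶ T) (x : (G F).obj.obj (op T)) :
    (G F).obj.map i.op ((G F).obj.map j.op x) = (G F).obj.map (i ≫ j).op x :=
  Fppf.map_comp' F i j x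

/-- Sections glue uniquely along etale coverings. -/
theorem existsUnique_glue {T : Over S} {ι : Type u} (U : ι → Over S) (j : ∀ i, U i ⟶ T)
    (hj : ∀ i, AlgebraicGeometry.Etale (j i).left) (hc : ∀ t : T.left, ∃ i z, (j i).left z = t)
    (x : ∀ i, (G F).obj.obj (op (U i)))
    (h : ∀ i k (Z : Over S) (a : Z ⟶ U i) (b : Z ⟶ U k), a ≫ j i = b ≫ j k →
      (G F).obj.map a.op (x i) = (G F).obj.map b.op (x k)) :
    ∃! y, ∀ i, (G F).obj.map (j i).op y = x i := by
  have hP := (isSheaf_iff_isSheaf_of_type _ _).1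
    ((Presheaf.isSheaf_iff_isSheaf_forget (Jet S) (G F).obj (forget AddCommGrpCat.{u + 1})).1 (G F).property)
    (Sieve.ofArrows U j) (mem_Jet.2 fun t => by
      obtain ⟨i, z, hz⟩ := hc t
      exact ⟨U i, j i, z, Sieve.ofArrows_mk U j i, hj i, hz⟩)
  rw [← Presieve.isSheafFor_iff_generate] at hP
  exact (Presieve.isSheafFor_arrows_iff _ j).1 hP x h

/-- Sections are determined on etale coverings. -/
theorem eq_of_cover {T : Over S} {ι : Type u} (U : ι → Over S) (j : ∀ i, U i ⟶ T)
    (hj : ∀ i, AlgebraicGeometry.Etale (j i).left) (hc : ∀ t : T.left, ∃ i z, (j i).left z = t)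
    (x y : (G F).obj.obj (op T)) (h : ∀ i, (G F).obj.map (j i).op x = (G F).obj.map (j i).op y) : x = y :=
  (existsUnique_glue F U j hj hc (fun i => (G F).obj.map (j i).op y) fun i k Z a b e => by
    rw [map_map', map_map', e]).unique h fun _ => rfl

theorem zarSep : (fam F).ZarSep := fun _ _ U j hU x y h =>
  eq_of_cover F U j (fun i => haveI := hU.isOpenImmersion i; inferInstance) hU.covers x y h

theorem zarGlue : (fam F).ZarGlue := fun _ _ U j hU x h =>
  (existsUnique_glue F U j (fun i => haveI := hU.isOpenImmersion i; inferInstance) hU.covers x h).exists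

open CartesianMonoidalCategory MonoidalCategory in
theorem sep_fst (P : Over S) [AlgebraicGeometry.Etale P.hom] [Surjective P.hom] (T : Over S) :
    (fam F).Sep (fst T P) := fun x y h =>
  eq_of_cover F (fun _ : PUnit.{u + 1} => T ⊗ P) (fun _ => fst T P)
    (fun _ => inferInstanceAs (AlgebraicGeometry.Etale (pullback.fst T.hom P.hom)))
    (fun t => ⟨PUnit.unit, (pullback.fst T.hom P.hom).surjective t⟩) x y fun _ => h

open CartesianMonoidalCategory MonoidalCategory in
theorem desc_fst (P : Over S) [AlgebraicGeometry.Etale P.hom] [Surjective P.hom] (T : Over S) :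
    (fam F).Desc (fst T P) := fun x h => by
  obtain ⟨y, hy, -⟩ := existsUnique_glue F (fun _ : PUnit.{u + 1} => T ⊗ P) (fun _ => fst T P)
    (fun _ => inferInstanceAs (AlgebraicGeometry.Etale (pullback.fst T.hom P.hom)))
    (fun t => ⟨PUnit.unit, (pullback.fst T.hom P.hom).surjective t⟩) (fun _ => x) fun _ _ Z a b e => h Z a b e
  exact ⟨y, hy PUnit.unit⟩

/-- The section of the big sheaf given by a section on an etale scheme. -/
def ev (U : S.Etale) : F.obj.obj (op U) ⟶ (G F).obj.obj (op ((EtFppf.a S).obj U)) :=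
  e F (𝟙 _)

theorem map_ev {T : Over S} {U : S.Etale} (c : T ⟶ (EtFppf.a S).obj U) (s : F.obj.obj (op U)) :
    (G F).obj.map c.op (ev F U s) = e F c s := by
  rw [ev, e_map, Category.comp_id]

theorem ev_nat {U U' : S.Etale} (b : U' ⟶ U) (s : F.obj.obj (op U)) :
    ev F U' (F.obj.map b.op s) = (G F).obj.map ((EtFppf.a S).map b).op (ev F U s) := by
  rw [map_ev, ev, e_nat, Category.id_comp]

theorem ev_eq_zero {U : S.Etale} (s : F.obj.obj (op U)) (h : ev F U s = 0) : s = 0 := by
  refine EtSite.ext_of_locally F fun x => ?_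
  obtain ⟨T', g, t', U', b, c', -, hgt, hc', hs⟩ := e_eq_zero F (𝟙 _) s h x
  rw [Category.comp_id] at hc'
  refine ⟨U', b, c'.left t', ?_, by rw [hs, map_zero]⟩
  rw [← hgt, ← hc']
  exact (comp_left_apply c' ((EtFppf.a S).map b) t').symm

theorem ev_injective (U : S.Etale) : Function.Injective (ev F U) :=
  (injective_iff_map_eq_zero _).2 fun _ h => ev_eq_zero F _ h

theorem ev_surjective (U : S.Etale) : Function.Surjective (ev F U) := by
  intro x
  have loc : ∀ t : U.left, ∃ (W : S.Etale) (g : W ⟶ U) (w : W.left) (s : F.obj.obj (op W)),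
      g.left w = t ∧ (G F).obj.map ((EtFppf.a S).map g).op x = ev F W s := by
    intro t
    obtain ⟨T', g, t', V, c, s, hg, ht, hx⟩ := exists_e F x t
    haveI := hg
    haveI : AlgebraicGeometry.Etale U.hom := U.prop
    let gl : T'.left ⟶ U.left := g.left
    haveI : AlgebraicGeometry.Etale gl := hg
    let W : S.Etale := Scheme.Etale.mk (gl ≫ U.hom)
    let gW : W ⟶ U := MorphismProperty.Over.homMk gl rfl
    let i : (EtFppf.a S).obj W ⟶ T' := Over.homMk (𝟙 T'.left)
      ((Category.id_comp _).trans (Over.w g).symm)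
    let cW : W ⟶ V := MorphismProperty.Over.homMk c.left ((Over.w c).trans (Over.w g).symm)
    refine ⟨W, gW, t', F.obj.map cW.op s, ht, ?_⟩
    have h1 : (EtFppf.a S).map gW = i ≫ g := Over.OverMorphism.ext (Category.id_comp _).symm
    have h2 : (EtFppf.a S).map cW = i ≫ c := Over.OverMorphism.ext (Category.id_comp _).symm
    rw [h1, ← map_map', hx, e_map, ev, e_nat, Category.id_comp, h2]
  choose W g w s hw hs using loc
  have hP := (isSheaf_iff_isSheaf_of_type _ _).1
    ((Presheaf.isSheaf_iff_isSheaf_forget S.smallEtaleTopology F.obj (forget AddCommGrpCat.{u + 1})).1 F.property)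
    (Sieve.ofArrows W g) ((EtSite.mem_topology_iff _).2 fun t =>
      ⟨W t, g t, w t, Sieve.ofArrows_mk W g t, hw t⟩)
  rw [← Presieve.isSheafFor_iff_generate] at hP
  obtain ⟨y, hy, -⟩ := (Presieve.isSheafFor_arrows_iff _ g).1 hP s fun i k Z a b e => by
    refine ev_injective F Z ?_
    show ev F Z (F.obj.map a.op (s i)) = ev F Z (F.obj.map b.op (s k))
    rw [ev_nat, ev_nat, ← hs, ← hs, map_map', map_map', ← Functor.map_comp, ← Functor.map_comp, e]
  refine ⟨y, eq_of_cover F (fun t => (EtFppf.a S).obj (W t)) (fun t => (EtFppf.a S).map (g t))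
    (fun t => inferInstance) (fun t => ⟨t, w t, hw t⟩) _ _ fun t => ?_⟩
  rw [← ev_nat, hs]
  exact congrArg (ev F (W t)) (hy t)

end Groth.L27.FLC
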