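import Mathlib.GroupTheory.Index
import Mathlib.Tactic.Group

/-! # Counting orbits of a subgroup on a torsor -/

set_option autoImplicit false

namespace Groth.L27.FLC

/-- Orbits of a subgroup on a torsor are counted by the index. -/
theorem card_eq_index {G X Y : Type*} [Group G] (P : Subgroup G) (φ : G → X) (hφ : Function.Surjective φ)
    (q : X → Y) (hq : Function.Surjective q) (hinv : ∀ p ∈ P, ∀ g, q (φ (p * g)) = q (φ g))
    (hrel : ∀ g h, q (φ g) = q (φ h) → h * g⁻¹ ∈ P) : Nat.card Y = P.index := by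
  let e : G ⧸ P → Y := Quotient.lift (fun g => q (φ g⁻¹)) fun g h hgh => by
    have hm := P.inv_mem (QuotientGroup.leftRel_apply.1 hgh)
    have h2 := hinv _ hm g⁻¹
    rw [show (g⁻¹ * h)⁻¹ * g⁻¹ = h⁻¹ by group] at h2
    exact h2.symm
  refine (Nat.card_congr (Equiv.ofBijective e ⟨fun x y => ?_, fun y => ?_⟩)).symm
  · refine Quotient.inductionOn₂ x y fun g h hgh => ?_
    refine Quotient.sound (QuotientGroup.leftRel_apply.2 ?_)
    have h1 := P.inv_mem (hrel _ _ hgh)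
    rwa [show (h⁻¹ * g⁻¹⁻¹)⁻¹ = g⁻¹ * h by group] at h1
  · obtain ⟨x, rfl⟩ := hq y
    obtain ⟨g, rfl⟩ := hφ x
    exact ⟨Quotient.mk _ g⁻¹, by show q (φ g⁻¹⁻¹) = q (φ g); rw [inv_inv]⟩

end Groth.L27.FLC
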